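import Groth.Agent.Lib.GrothSS.Main
import Groth.Agent.Lib.SheafCoh.DerivedComp
import Groth.Agent.Lib.SheafCoh.Push
import Groth.Agent.Lib.SiteDer.PullAb
import Groth.Prelude.Def_CohSite

/-! # Spectral sequences of composites of functors on sheaves -/

set_option autoImplicit false
universe u

open CategoryTheory CategoryTheory.Limits Opposite

namespace GrothLib.GrothSS

variable {C : Type u} [SmallCategory C] (J : GrothendieckTopology C)
  {D : Type u} [SmallCategory D] (K : GrothendieckTopology D) (u : D ⥤ C) [u.IsContinuous K J]

/-- Sections over an object. -/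
noncomputable abbrev secAt (U : C) : Sheaf J AddCommGrpCat.{u} ⥤ AddCommGrpCat.{u} :=
  sheafToPresheaf J AddCommGrpCat.{u} ⋙ (evaluation Cᵒᵖ AddCommGrpCat.{u}).obj (op U)

/-- The derived functors of sections are cohomology. -/
noncomputable def rightDerivedSecAtIso (U : C) (F : Sheaf J AddCommGrpCat.{u}) (n : ℕ) :
    ((secAt J U).rightDerived n).obj F ≅ AddCommGrpCat.of (CohSite.HU F n U) :=
  haveI := Functor.preservesHomologyOfExact ((evaluation Cᵒᵖ AddCommGrpCat.{u}).obj (op U))
  SheafCoh.rightDerivedCompIso (secAt J U) ((evaluation Cᵒᵖ AddCommGrpCat.{u}).obj (op U))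
    (Iso.refl _) F n

theorem preservesFiniteLimits_secAt (U : C) : PreservesFiniteLimits (secAt J U) := inferInstance

theorem preservesFiniteLimits_push : PreservesFiniteLimits (CohSite.push J K u) :=
  have : PreservesLimitsOfSize.{0, 0} (CohSite.push J K u) :=
    (u.sheafAdjunctionContinuous AddCommGrpCat.{u} K J).rightAdjoint_preservesLimits
      (G := CohSite.push J K u)
  inferInstance

theorem injective_push [PreservesFiniteLimits (u.sheafPullback (Type u) K J)]
    (I : Sheaf J AddCommGrpCat.{u}) [Injective I] : Injective ((CohSite.push J K u).obj I) :=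
  have : PreservesFiniteLimits (u.sheafPullback AddCommGrpCat.{u} K J) :=
    SiteDer.preservesFiniteLimits_sheafPullback u
  SheafCoh.injective_push_of_preservesMono K u
    (preservesMonomorphisms_of_preservesLimitsOfShape _) I

end GrothLib.GrothSS
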