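import Groth.Agent.Lib.GrothSS.Universal
import Groth.Agent.Lib.GrothSS.Site
import Groth.Agent.Lib.Cech.Site
import Groth.Agent.Lib.SheafCoh.Derived
import Groth.Agent.Lib.SheafCoh.PshExt

/-! # Čech cohomology of presheaves as a derived functor -/

set_option autoImplicit false
universe u

open CategoryTheory CategoryTheory.Limits Opposite

namespace GrothLib.GrothSS

open GrothLib

attribute [local instance] SheafCoh.enoughInjectivesPsh SheafCoh.isGrothendieckAbelianPsh

variable {C : Type u} [SmallCategory C] [HasPullbacks C] {X : C} {ι : Type u} (Y : ι → Over X)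

/-- The Čech complex of a presheaf. -/
noncomputable abbrev cechPsh : (Cᵒᵖ ⥤ AddCommGrpCat.{u}) ⥤ CochainComplex AddCommGrpCat.{u} ℕ :=
  (Functor.whiskeringLeft _ _ _).obj (Over.forget X).op ⋙ cechComplexFunctor Y

/-- Coordinates of a cochain. -/
noncomputable def pev (P : Cᵒᵖ ⥤ AddCommGrpCat.{u}) {n : ℕ} (a : Fin (n + 1) → ι) :
    ((cechPsh Y).obj P).X n ⟶ P.obj (op (Cech.obj Y a).left) :=
  Cech.ev Y ((Over.forget X).op ⋙ P) a

/-- A cochain from coordinates. -/
noncomputable def pmk (P : Cᵒᵖ ⥤ AddCommGrpCat.{u}) {n : ℕ}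
    (x : ∀ a : Fin (n + 1) → ι, P.obj (op (Cech.obj Y a).left)) : ((cechPsh Y).obj P).X n :=
  Cech.mk Y ((Over.forget X).op ⋙ P) x

lemma pev_pmk (P : Cᵒᵖ ⥤ AddCommGrpCat.{u}) {n : ℕ}
    (x : ∀ a : Fin (n + 1) → ι, P.obj (op (Cech.obj Y a).left)) (a : Fin (n + 1) → ι) :
    pev Y P a (pmk Y P x) = x a :=
  Cech.ev_mk Y ((Over.forget X).op ⋙ P) x a

lemma pext {P : Cᵒᵖ ⥤ AddCommGrpCat.{u}} {n : ℕ} {x y : ((cechPsh Y).obj P).X n}
    (h : ∀ a : Fin (n + 1) → ι, pev Y P a x = pev Y P a y) : x = y :=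
  Cech.ext Y ((Over.forget X).op ⋙ P) h

lemma cech_ev_map {P Q : Cᵒᵖ ⥤ AddCommGrpCat.{u}} (g : P ⟶ Q) {n : ℕ} (a : Fin (n + 1) → ι)
    (x : ((cechPsh Y).obj P).X n) :
    pev Y Q a (((cechPsh Y).map g).f n x) = g.app (op (Cech.obj Y a).left) (pev Y P a x) :=
  ConcreteCategory.congr_hom (Pi.map_π
    (fun a : Fin (n + 1) → ι => g.app (op (Cech.obj Y a).left)) a) x

instance : (cechPsh Y).Additive where
  map_add {P Q f g} := by
    apply HomologicalComplex.hom_ext
    intro n
    ext x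
    refine pext Y fun a => ?_
    change pev Y _ a _ = pev Y _ a ((((cechPsh Y).map f).f n x) + (((cechPsh Y).map g).f n x))
    rw [map_add, cech_ev_map, cech_ev_map, cech_ev_map]
    rfl

theorem cechPsh_shortExact (S : ShortComplex (Cᵒᵖ ⥤ AddCommGrpCat.{u})) (hS : S.ShortExact) :
    (S.map (cechPsh Y)).ShortExact := by
  have hW : ∀ W, (S.map ((evaluation _ _).obj W)).ShortExact := fun W => hS.map_of_exact _
  apply HomologicalComplex.shortExact_of_degreewise_shortExact
  intro n
  refine { exact := ?_, mono_f := ?_, epi_g := ?_ }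
  · rw [ShortComplex.ab_exact_iff]
    intro (x : ((cechPsh Y).obj S.X₂).X n) hx
    have : ∀ a, ∃ r, S.f.app (op (Cech.obj Y a).left) r = pev Y S.X₂ a x := by
      intro a
      refine (ShortComplex.ab_exact_iff _).1 (hW _).exact _ ?_
      change S.g.app _ _ = 0
      rw [← cech_ev_map]
      exact (congrArg (pev Y _ a) hx).trans (map_zero _)
    choose r hr using this
    refine ⟨pmk Y S.X₁ r, pext Y fun a => ?_⟩
    change pev Y _ a (((cechPsh Y).map S.f).f n _) = _
    rw [cech_ev_map, pev_pmk]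
    exact hr a
  · rw [AddCommGrpCat.mono_iff_injective]
    intro (x : ((cechPsh Y).obj S.X₁).X n) (y : ((cechPsh Y).obj S.X₁).X n) hxy
    refine pext Y fun a => (AddCommGrpCat.mono_iff_injective _).1 (hW _).mono_f ?_
    change S.f.app _ _ = S.f.app _ _
    rw [← cech_ev_map, ← cech_ev_map]
    exact congrArg (pev Y _ a) hxy
  · rw [AddCommGrpCat.epi_iff_surjective]
    intro x
    have : ∀ a, ∃ r, S.g.app (op (Cech.obj Y a).left) r = pev Y S.X₃ a x :=
      fun a => (AddCommGrpCat.epi_iff_surjective _).1 (hW _).epi_g _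
    choose r hr using this
    refine ⟨pmk Y S.X₂ r, pext Y fun a => ?_⟩
    change pev Y _ a (((cechPsh Y).map S.g).f n _) = _
    rw [cech_ev_map, pev_pmk]
    exact hr a

theorem nonempty_rightDerived_cech_iso (P : Cᵒᵖ ⥤ AddCommGrpCat.{u}) (p : ℕ) :
    Nonempty (((cohomFun (cechPsh Y) 0).rightDerived p).obj P ≅ CohCx.cechH P Y p) :=
  nonempty_rightDerived_cohomFun_iso (cechPsh Y) (cechPsh_shortExact Y)
    (fun I hI n => @Cech.isZero_cechH_of_injective_presheaf _ _ _ _ I hI _ Y n) p P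

variable (J : GrothendieckTopology C)

/-- Sections are the Čech cohomology in degree zero. -/
noncomputable def secCechIso (hY : Sieve.ofArrows (fun i => (Y i).left) (fun i => (Y i).hom) ∈ J X) :
    secAt J X ≅ sheafToPresheaf J AddCommGrpCat.{u} ⋙ cohomFun (cechPsh Y) 0 :=
  NatIso.ofComponents
    (fun F => @asIso _ _ _ _
      (Cech.augH (Over.forget X) Y (fun i => (Y i).hom)
        (fun W i k f g => (Over.w f).trans (Over.w g).symm) F)
      (Cech.isIso_augH (Over.forget X) Y (fun i => (Y i).hom)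
        (fun W i k f g => (Over.w f).trans (Over.w g).symm) hY
        (fun Z i k g₁ g₂ hg => ⟨Over.mk (g₁ ≫ (Y i).hom), Over.homMk g₁, Over.homMk g₂ hg.symm, 𝟙 Z,
          Category.id_comp _, Category.id_comp _⟩) F))
    (fun g => Cech.augH_naturality (Over.forget X) Y (fun i => (Y i).hom)
      (fun W i k f g => (Over.w f).trans (Over.w g).symm) g)

end GrothLib.GrothSS
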