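import Groth.Agent.Lib.DerCat.RDMiddle
import Groth.Agent.Lib.DerCat.Acyclic
import Mathlib.Algebra.Homology.HomotopyCategory.Plus
import Mathlib.Algebra.Homology.Embedding.CochainComplex

/-! # Acyclic complexes of acyclic objects -/

set_option autoImplicit false
universe v v' u u'

open CategoryTheory CategoryTheory.Limits

namespace GrothLib.GrothSS

open GrothLib.HomGamma

variable {A : Type u} [Category.{v} A] [Abelian A] [EnoughInjectives A]
  {B : Type u'} [Category.{v'} B] [Abelian B] (S : A ⥤ B) [S.Additive] [PreservesFiniteLimits S]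

omit [EnoughInjectives A] [PreservesFiniteLimits S] in
instance [HasInjectiveResolutions A] (n : ℕ) : (S.rightDerived n).Additive := by
  have : (injectiveResolutions A).Additive :=
    ⟨fun {X Y f g} => by
      have e := HomotopyCategory.eq_of_homotopy _ _ (InjectiveResolution.descHomotopy
        (I := injectiveResolution X) (J := injectiveResolution Y) (f + g)
        (InjectiveResolution.desc (f + g) (injectiveResolution Y) (injectiveResolution X))
        (InjectiveResolution.desc f (injectiveResolution Y) (injectiveResolution X) +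
          InjectiveResolution.desc g (injectiveResolution Y) (injectiveResolution X))
        (InjectiveResolution.desc_commutes _ _ _)
        (by simp [InjectiveResolution.desc_commutes, Functor.map_add]))
      exact e.trans (Functor.map_add _)⟩
  dsimp [Functor.rightDerived, Functor.rightDerivedToHomotopyCategory]
  infer_instance

/-- All higher derived functors vanish. -/
def IsAcyclicObj (X : A) : Prop := ∀ k : ℕ, IsZero ((S.rightDerived (k + 1)).obj X)

/-- `R^{k+1}` of a quotient vanishes. -/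
theorem isZero_rightDerived_X₃ (k : ℕ) : ∀ (T : ShortComplex A), T.ShortExact →
    IsZero ((S.rightDerived (k + 2)).obj T.X₁) → IsZero ((S.rightDerived (k + 1)).obj T.X₂) →
    IsZero ((S.rightDerived (k + 1)).obj T.X₃) := by
  induction k with
  | zero =>
    intro T hT h1 h2
    obtain ⟨T₁, T₂, T₃, φ, ψ, e₁, e₂, e₃, h₁, h₂, h₃, i₁, i₂, i₃, -, w, hC⟩ := exists_horseshoe T hT
    rw [← e₁] at h1; rw [← e₂] at h2; rw [← e₃]
    have : Epi (S.map T₂.g) := epi_map_g_of_isZero h₂ S h2
    have : Epi (S.map ψ.τ₃) :=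
      (shortExact_map_of_isZero S hC (h1.of_iso (shiftIso h₁ S 0).symm)).epi_g
    have : Epi (S.map ψ.τ₂ ≫ S.map T₃.g) := by
      rw [← S.map_comp, ψ.comm₂₃, S.map_comp]; exact epi_comp _ _
    have : Epi (S.map T₃.g) := epi_of_epi (S.map ψ.τ₂) _
    exact IsZero.of_iso (isZero_cokernel_of_epi _) (shiftIsoOne h₃ S)
  | succ k ih =>
    intro T hT h1 h2
    obtain ⟨T₁, T₂, T₃, φ, ψ, e₁, e₂, e₃, h₁, h₂, h₃, i₁, i₂, i₃, -, w, hC⟩ := exists_horseshoe T hT
    rw [← e₁] at h1; rw [← e₂] at h2; rw [← e₃]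
    refine IsZero.of_iso ?_ (shiftIso h₃ S k)
    exact ih (ShortComplex.mk φ.τ₃ ψ.τ₃ w) hC (h1.of_iso (shiftIso h₁ S (k + 1)).symm)
      (h2.of_iso (shiftIso h₂ S k).symm)

omit [PreservesFiniteLimits S] in
lemma isAcyclicObj_of_isZero {X : A} (h : IsZero X) : IsAcyclicObj S X :=
  fun k => (S.rightDerived (k + 1)).map_isZero h

omit [PreservesFiniteLimits S] in
lemma isAcyclicObj_of_injective (X : A) [Injective X] : IsAcyclicObj S X :=
  fun k => S.isZero_rightDerived_obj_injective_succ k X

omit [PreservesFiniteLimits S] in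
lemma isAcyclicObj_of_iso {X Y : A} (e : X ≅ Y) (h : IsAcyclicObj S X) : IsAcyclicObj S Y :=
  fun k => (h k).of_iso ((S.rightDerived (k + 1)).mapIso e.symm)

omit [PreservesFiniteLimits S] in
lemma isAcyclicObj_biprod {X Y : A} (hX : IsAcyclicObj S X) (hY : IsAcyclicObj S Y) :
    IsAcyclicObj S (X ⊞ Y) := fun k => by
  rw [IsZero.iff_id_eq_zero, ← (S.rightDerived (k + 1)).map_id, ← biprod.total]
  rw [Functor.map_add, Functor.map_comp, Functor.map_comp,
    (hX k).eq_zero_of_tgt ((S.rightDerived (k + 1)).map biprod.fst),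
    (hY k).eq_zero_of_tgt ((S.rightDerived (k + 1)).map biprod.snd)]
  simp

/-- The short complex of cycles. -/
noncomputable abbrev zSC (L : CochainComplex A ℤ) (i j k : ℤ) : ShortComplex A :=
  ShortComplex.mk (kernel.ι (L.d i j))
    (kernel.lift (L.d j k) (L.d i j) (L.d_comp_d _ _ _)) (by ext; simp)

omit [EnoughInjectives A] in
lemma zSC_shortExact (L : CochainComplex A ℤ) (hL : L.Acyclic) (i j k : ℤ) (hj : i + 1 = j)
    (hk : j + 1 = k) : (zSC L i j k).ShortExact := by
  have h : (ShortComplex.mk _ _ (L.d_comp_d i j k)).Exact :=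
    (L.exactAt_iff' i j k (CochainComplex.prev ℤ j ▸ by omega) (CochainComplex.next ℤ j ▸ by omega)).1
      (hL j)
  have : Epi (zSC L i j k).g := h.epi_kernelLift
  exact
    { exact := ShortComplex.exact_of_f_is_kernel _ (KernelFork.IsLimit.ofι _ _
        (fun l hl ↦ kernel.lift _ l (by
          have := hl =≫ kernel.ι _
          simpa using this))
        (fun l hl ↦ kernel.lift_ι _ _ _)
        (fun l hl m hm ↦ by ext; simp [hm])) }

lemma isAcyclicObj_cycles (L : CochainComplex A ℤ) (a : ℤ) [L.IsStrictlyGE a] (hL : L.Acyclic)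
    (hX : ∀ i, IsAcyclicObj S (L.X i)) :
    ∀ (m : ℕ) (i j : ℤ), i = a - 1 + m → i + 1 = j → IsAcyclicObj S (kernel (L.d i j)) := by
  intro m
  induction m with
  | zero =>
    intro i j hi _
    have hz : IsZero (L.X i) := L.isZero_of_isStrictlyGE a i (by omega)
    refine isAcyclicObj_of_isZero S ?_
    rw [IsZero.iff_id_eq_zero, ← cancel_mono (kernel.ι (L.d i j))]
    exact hz.eq_of_tgt _ _
  | succ m ih =>
    intro i j hi hj k
    have hs := zSC_shortExact L hL (i - 1) i j (by omega) hj
    exact isZero_rightDerived_X₃ S k (zSC L (i - 1) i j) hs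
      (ih (i - 1) i (by omega) (by omega) (k + 1)) (hX _ k)

/-- A bounded below acyclic complex of acyclic objects stays acyclic. -/
theorem acyclic_map (L : CochainComplex A ℤ) (a : ℤ) [L.IsStrictlyGE a] (hL : L.Acyclic)
    (hX : ∀ i, IsAcyclicObj S (L.X i)) :
    ((S.mapHomologicalComplex (ComplexShape.up ℤ)).obj L).Acyclic := by
  have hS : ∀ i j k : ℤ, i + 1 = j → j + 1 = k → ((zSC L i j k).map S).ShortExact := by
    intro i j k hj hk
    refine shortExact_map_of_isZero S (zSC_shortExact L hL i j k hj hk) ?_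
    by_cases hi : a - 1 ≤ i
    · exact isAcyclicObj_cycles S L a hL hX (i - (a - 1)).toNat i j (by omega) hj 0
    · refine (S.rightDerived 1).map_isZero ?_
      change IsZero (kernel (L.d i j))
      rw [IsZero.iff_id_eq_zero, ← cancel_mono (kernel.ι (L.d i j))]
      exact (L.isZero_of_isStrictlyGE a i (by omega)).eq_of_tgt _ _
  intro j
  rw [HomologicalComplex.exactAt_iff' _ (j - 1) j (j + 1) (by simp) (by simp)]
  have h₀ := (hS (j - 1) j (j + 1) (by omega) rfl).epi_g
  have h₁ := hS j (j + 1) (j + 2) rfl (by omega)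
  have h₂ := (hS (j + 1) (j + 2) (j + 3) (by omega) (by omega)).mono_f
  let T : ShortComplex B := ShortComplex.mk (S.map (L.d (j - 1) j))
    (S.map (zSC L j (j + 1) (j + 2)).g) (by
      rw [← S.map_comp]
      convert S.map_zero _ _
      rw [← cancel_mono (kernel.ι (L.d (j + 1) (j + 2)))]
      simp)
  let φ : T ⟶ (zSC L j (j + 1) (j + 2)).map S :=
    { τ₁ := S.map (zSC L (j - 1) j (j + 1)).g
      τ₂ := 𝟙 _
      τ₃ := 𝟙 _
      comm₁₂ := (S.map_comp _ _).symm.trans
        ((congrArg S.map (kernel.lift_ι _ _ _)).trans (Category.comp_id _).symm)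
      comm₂₃ := (Category.id_comp _).trans (Category.comp_id _).symm }
  let ψ : T ⟶ ((S.mapHomologicalComplex _).obj L).sc' (j - 1) j (j + 1) :=
    { τ₁ := 𝟙 _
      τ₂ := 𝟙 _
      τ₃ := S.map (zSC L (j + 1) (j + 2) (j + 3)).f
      comm₁₂ := (Category.id_comp _).trans (Category.comp_id _).symm
      comm₂₃ := (Category.id_comp _).trans
        ((congrArg S.map (kernel.lift_ι _ _ _)).symm.trans (S.map_comp _ _)) }
  have : Epi φ.τ₁ := h₀
  have : IsIso φ.τ₂ := inferInstanceAs (IsIso (𝟙 _))
  have : Mono φ.τ₃ := inferInstanceAs (Mono (𝟙 _))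
  have : Epi ψ.τ₁ := inferInstanceAs (Epi (𝟙 _))
  have : IsIso ψ.τ₂ := inferInstanceAs (IsIso (𝟙 _))
  have : Mono ψ.τ₃ := h₂
  exact (ShortComplex.exact_iff_of_epi_of_isIso_of_mono ψ).1
    ((ShortComplex.exact_iff_of_epi_of_isIso_of_mono φ).2 h₁.exact)

/-- `S` preserves quasi-isomorphisms of bounded below complexes of acyclic objects. -/
theorem quasiIso_map {K L : CochainComplex A ℤ} (f : K ⟶ L) [QuasiIso f] (a : ℤ)
    [K.IsStrictlyGE a] [L.IsStrictlyGE a]
    (hK : ∀ i, IsAcyclicObj S (K.X i)) (hL : ∀ i, IsAcyclicObj S (L.X i)) :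
    QuasiIso ((S.mapHomologicalComplex (ComplexShape.up ℤ)).map f) := by
  rw [DerCat.quasiIso_iff_acyclic_mappingCone]
  have := CochainComplex.isStrictlyGE_mappingCone f a a (a - 1)
  refine DerCat.acyclic_of_iso (CochainComplex.mappingCone.mapHomologicalComplexIso f S)
    (acyclic_map S _ (a - 1) ((DerCat.quasiIso_iff_acyclic_mappingCone f).1 inferInstance) fun i => ?_)
  exact isAcyclicObj_of_iso S
    (HomologicalComplex.homotopyCofiber.XIsoBiprod f i (i + 1) (by simp)).symm
    (isAcyclicObj_biprod S (hK _) (hL _))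

end GrothLib.GrothSS
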