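import Groth.Agent.Lib.SheafCoh.ExtDerived
import Groth.Agent.Lib.SheafCoh.Derived
import Mathlib.CategoryTheory.Preadditive.Yoneda.Basic

/-! # Derived functors of `Hom(Z, -)`, naturally -/

set_option autoImplicit false
universe v u

open CategoryTheory CategoryTheory.Limits Opposite Abelian

namespace GrothLib.GrothSS

variable {A : Type u} [Category.{v} A] [Abelian A] [HasExt.{v} A] (Z : A)

/-- `Hom(Z, -)`. -/
noncomputable abbrev homFun : A ⥤ AddCommGrpCat.{v} := preadditiveCoyoneda.obj (op Z)

variable {Z} {F : A} (I : InjectiveResolution F)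

/-- `Hom(Z, I)`. -/
noncomputable abbrev homI : CochainComplex AddCommGrpCat.{v} ℕ :=
  ((homFun Z).mapHomologicalComplex (ComplexShape.up ℕ)).obj I.cocomplex

omit [HasExt.{v} A] in
lemma homI_iCycles_d (n : ℕ) (z : (homI (Z := Z) I).cycles n) :
    ((homI (Z := Z) I).iCycles n z : Z ⟶ I.cocomplex.X n) ≫ I.cocomplex.d n (n + 1) = 0 :=
  ConcreteCategory.congr_hom ((homI (Z := Z) I).iCycles_d n (n + 1)) z

/-- A cocycle gives a class. -/
noncomputable def cycToExt (n : ℕ) : (homI (Z := Z) I).cycles n ⟶ (extFunctorObj Z n).obj F :=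
  AddCommGrpCat.ofHom (AddMonoidHom.mk'
    (fun z => (I.extMk ((homI (Z := Z) I).iCycles n z : Z ⟶ I.cocomplex.X n) (n + 1) rfl
      (homI_iCycles_d I n z) : Ext Z F n))
    (fun a b => by
      rw [InjectiveResolution.add_extMk]
      congr 1
      exact map_add _ a b))

lemma cycToExt_apply (n : ℕ) (z : (homI (Z := Z) I).cycles n) :
    cycToExt I n z = I.extMk ((homI (Z := Z) I).iCycles n z : Z ⟶ I.cocomplex.X n) (n + 1) rfl
      (homI_iCycles_d I n z) := rfl

lemma toCycles_cycToExt (m n : ℕ) : (homI (Z := Z) I).toCycles m n ≫ cycToExt I n = 0 := by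
  by_cases h : m + 1 = n
  · ext t
    change cycToExt I n ((homI (Z := Z) I).toCycles m n t) = 0
    rw [cycToExt_apply]
    exact (I.extMk_eq_zero_iff _ _ _ _ m h).2 ⟨t,
      (ConcreteCategory.congr_hom ((homI (Z := Z) I).toCycles_i m n) t).symm⟩
  · rw [HomologicalComplex.toCycles_eq_zero _ h, zero_comp]

/-- From cohomology to `Ext`. -/
noncomputable def homToExt (n : ℕ) : (homI (Z := Z) I).homology n ⟶ (extFunctorObj Z n).obj F :=
  ((homI (Z := Z) I).homologyIsCokernel _ n rfl).desc
    (CokernelCofork.ofπ (cycToExt I n) (toCycles_cycToExt I _ n))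

lemma homologyπ_homToExt (n : ℕ) : (homI (Z := Z) I).homologyπ n ≫ homToExt I n = cycToExt I n :=
  ((homI (Z := Z) I).homologyIsCokernel _ n rfl).fac
    (CokernelCofork.ofπ (cycToExt I n) (toCycles_cycToExt I _ n)) WalkingParallelPair.one

theorem isIso_homToExt (n : ℕ) : IsIso (homToExt (Z := Z) I n) := by
  rw [ConcreteCategory.isIso_iff_bijective]
  have hinj : Function.Injective ((homI (Z := Z) I).iCycles n) :=
    (AddCommGrpCat.mono_iff_injective _).1 inferInstance
  refine ⟨(injective_iff_map_eq_zero _).2 fun x hx => ?_, fun α => ?_⟩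
  · obtain ⟨z, rfl⟩ := (AddCommGrpCat.epi_iff_surjective ((homI (Z := Z) I).homologyπ n)).1
      inferInstance x
    have hz : cycToExt I n z = 0 :=
      ((ConcreteCategory.congr_hom (homologyπ_homToExt I n) z).symm.trans hx :)
    rw [cycToExt_apply] at hz
    cases n with
    | zero =>
      have h0 := SheafCoh.extMk_eq_zero_zero I _ _ hz
      rw [show z = 0 from hinj (h0.trans (map_zero _).symm), map_zero]
    | succ m =>
      obtain ⟨g, hg⟩ := (I.extMk_eq_zero_iff _ _ _ _ m rfl).1 hz
      have : z = (homI (Z := Z) I).toCycles m (m + 1) g := hinj (hg.symm.trans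
        (ConcreteCategory.congr_hom ((homI (Z := Z) I).toCycles_i m (m + 1)) g).symm)
      rw [this]
      exact ConcreteCategory.congr_hom ((homI (Z := Z) I).toCycles_comp_homologyπ m (m + 1)) g
  · obtain ⟨f, hf, rfl⟩ := I.extMk_surjective α (n + 1) rfl
    let S := ShortComplex.mk ((homI (Z := Z) I).iCycles n) ((homI (Z := Z) I).d n (n + 1))
      ((homI (Z := Z) I).iCycles_d n (n + 1))
    have hS : S.Exact := S.exact_of_f_is_kernel ((homI (Z := Z) I).cyclesIsKernel n (n + 1) (by simp))
    obtain ⟨z, hz⟩ := (ShortComplex.ab_exact_iff S).1 hS f hf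
    refine ⟨(homI (Z := Z) I).homologyπ n z, ?_⟩
    refine (ConcreteCategory.congr_hom (homologyπ_homToExt I n) z).trans ?_
    rw [cycToExt_apply]
    congr 1

lemma homToExt_naturality {F' : A} (I' : InjectiveResolution F') (g : F ⟶ F')
    (ψ : InjectiveResolution.Hom I I' g) (n : ℕ) :
    HomologicalComplex.homologyMap
        (((homFun Z).mapHomologicalComplex (ComplexShape.up ℕ)).map ψ.hom) n ≫ homToExt I' n =
      homToExt I n ≫ (extFunctorObj Z n).map g := by
  rw [← cancel_epi ((homI (Z := Z) I).homologyπ n), ← Category.assoc, ← Category.assoc,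
    HomologicalComplex.homologyπ_naturality, Category.assoc, homologyπ_homToExt, homologyπ_homToExt]
  ext z
  change cycToExt I' n _ = (cycToExt I n z : Ext Z F n).comp (Ext.mk₀ g) (add_zero n)
  rw [cycToExt_apply, cycToExt_apply]
  refine Eq.trans ?_ (InjectiveResolution.extMk_comp_mk₀ _ (n + 1) rfl (homI_iCycles_d I n z) ψ).symm
  congr 1
  exact ConcreteCategory.congr_hom (HomologicalComplex.cyclesMap_i
    (((homFun Z).mapHomologicalComplex (ComplexShape.up ℕ)).map ψ.hom) n) z

variable (Z) [HasInjectiveResolutions A]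

/-- `R^n Hom(Z, -) = Ext^n(Z, -)`. -/
noncomputable def rightDerivedHomFunIso (n : ℕ) : (homFun Z).rightDerived n ≅ extFunctorObj Z n :=
  NatIso.ofComponents
    (fun F => (injectiveResolution F).isoRightDerivedObj (homFun Z) n ≪≫
      @asIso _ _ _ _ (homToExt (Z := Z) (injectiveResolution F) n)
        (isIso_homToExt (injectiveResolution F) n))
    (fun {F F'} g => by
      let I := injectiveResolution F
      let I' := injectiveResolution F'
      let ψ : InjectiveResolution.Hom I I' g :=
        { hom := InjectiveResolution.desc g I' I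
          ι_f_zero_comp_hom_f_zero := by
            rw [CochainComplex.single₀_map_f_zero]
            exact InjectiveResolution.desc_commutes_zero g I' I }
      have h1 := InjectiveResolution.isoRightDerivedObj_hom_naturality g I I' ψ.hom
        (InjectiveResolution.desc_commutes_zero g I' I) (homFun Z) n
      change ((homFun Z).rightDerived n).map g ≫
          (I'.isoRightDerivedObj (homFun Z) n).hom ≫ homToExt I' n =
        ((I.isoRightDerivedObj (homFun Z) n).hom ≫ homToExt I n) ≫ (extFunctorObj Z n).map g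
      rw [← Category.assoc, h1, Category.assoc, Category.assoc]
      exact congrArg (_ ≫ ·) (homToExt_naturality I I' g ψ n))

/-- A functor isomorphic to `Hom(Z, -)` has `Ext^n(Z, -)` as its derived functors. -/
noncomputable def rightDerivedExtFunctorIso (Φ : A ⥤ AddCommGrpCat.{v}) [Φ.Additive]
    (e : Φ ≅ homFun Z) (n : ℕ) : Φ.rightDerived n ≅ extFunctorObj Z n :=
  SheafCoh.rightDerivedCongr e n ≪≫ rightDerivedHomFunIso Z n

end GrothLib.GrothSS
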