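import Groth.Agent.Lib.GrothSS.Hyper

/-! # The spectral sequence of a composite functor -/

set_option autoImplicit false
universe v v' v'' u u' u''

open CategoryTheory CategoryTheory.Limits CochainComplex

namespace GrothLib.GrothSS

variable {A : Type u'} [Category.{v'} A] [Abelian A] [HasInjectiveResolutions A]
  {B : Type u''} [Category.{v''} B] [Abelian B] (S : A ⥤ B) [S.Additive] [PreservesFiniteLimits S]

/-- The hypercohomology spectral sequence of a complex of acyclic objects. -/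
theorem exists_hyper_acyclic (K : CochainComplex A ℤ) [K.IsStrictlyGE 0]
    (hK : ∀ (i : ℤ) (k : ℕ), IsZero ((S.rightDerived (k + 1)).obj (K.X i)))
    (E₂ : ℤ × ℤ → B) (H : ℤ → B)
    (hH : ∀ n, Nonempty (H n ≅ ((S.mapHomologicalComplex (ComplexShape.up ℤ)).obj K).homology n))
    (hE0 : ∀ pq : ℤ × ℤ, pq.1 < 0 ∨ pq.2 < 0 → IsZero (E₂ pq))
    (hE : ∀ p q : ℕ, Nonempty (E₂ ((p : ℤ), (q : ℤ)) ≅ (S.rightDerived p).obj (K.homology q))) :
    ∃ (E : E₂CohomologicalSpectralSequence B) (a : SpSeq.Abutment E H),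
      (∀ n, a.IsFinite n) ∧ SpSeq.IsBounded E ∧
      ∀ pq : ℤ × ℤ, Nonempty ((E.page 2 le_rfl).X pq ≅ E₂ pq) := by
  have := enoughInjectives_of_resolutions A
  obtain ⟨J, φ, hφ, hJ, hJge⟩ :=
    CochainComplex.Plus.modelCategoryQuillen.exists_quasiIso_injective K 0
  have := quasiIso_map S φ 0 hK fun i => have := hJ i; isAcyclicObj_of_injective S _
  refine exists_hyper S ⟨J, by simpa using hJge, hJ⟩ E₂ H (fun n => ?_) hE0 fun p q => ?_
  · exact ⟨(hH n).some ≪≫
      isoOfQuasiIsoAt ((S.mapHomologicalComplex (ComplexShape.up ℤ)).map φ) n⟩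
  · exact ⟨(hE p q).some ≪≫ (S.rightDerived p).mapIso (isoOfQuasiIsoAt φ (q : ℤ))⟩

variable {C : Type u} [Category.{v} C] [Abelian C] [HasInjectiveResolutions C] (T : C ⥤ A) [T.Additive]

/-- The spectral sequence of a composite, with both sides up to isomorphism. -/
theorem exists_composite (hT : ∀ Q : C, Injective Q → ∀ q : ℕ, 0 < q → IsZero ((S.rightDerived q).obj (T.obj Q)))
    (X : C) (E₂ : ℤ × ℤ → B) (H : ℤ → B)
    (hH0 : ∀ n : ℤ, n < 0 → IsZero (H n))
    (hH : ∀ n : ℕ, Nonempty (H (n : ℤ) ≅ ((T ⋙ S).rightDerived n).obj X))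
    (hE0 : ∀ pq : ℤ × ℤ, pq.1 < 0 ∨ pq.2 < 0 → IsZero (E₂ pq))
    (hE : ∀ p q : ℕ, Nonempty (E₂ ((p : ℤ), (q : ℤ)) ≅
      (S.rightDerived p).obj ((T.rightDerived q).obj X))) :
    ∃ (E : E₂CohomologicalSpectralSequence B) (a : SpSeq.Abutment E H),
      (∀ n, a.IsFinite n) ∧ SpSeq.IsBounded E ∧
      ∀ pq : ℤ × ℤ, Nonempty ((E.page 2 le_rfl).X pq ≅ E₂ pq) := by
  let I := injectiveResolution X
  let M := (T.mapHomologicalComplex (ComplexShape.up ℕ)).obj I.cocomplex
  let K : CochainComplex A ℤ := M.extend ComplexShape.embeddingUpNat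
  refine exists_hyper_acyclic S K (fun i k => ?_) E₂ H (fun n => ?_) hE0 fun p q => ?_
  · by_cases hi : 0 ≤ i
    · exact (hT _ (I.injective i.toNat) (k + 1) (by omega)).of_iso ((S.rightDerived (k + 1)).mapIso
        (M.extendXIso ComplexShape.embeddingUpNat (i := i.toNat) (by simp; omega)))
    · have := enoughInjectives_of_resolutions A
      exact (S.rightDerived (k + 1)).map_isZero
        (K.isZero_of_isStrictlyGE 0 i (by omega))
  · by_cases hn : 0 ≤ n
    · obtain ⟨m, rfl⟩ : ∃ m : ℕ, n = m := ⟨n.toNat, by omega⟩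
      exact ⟨(hH m).some ≪≫ I.isoRightDerivedObj (T ⋙ S) m ≪≫
        (HomologicalComplex.homologyFunctor B _ m).mapIso
          (HomologicalComplex.Hom.isoOfComponents (fun _ => Iso.refl _)
            (fun i j _ => (Category.id_comp _).trans (Category.comp_id _).symm) :
            ((T ⋙ S).mapHomologicalComplex (ComplexShape.up ℕ)).obj I.cocomplex ≅
              (S.mapHomologicalComplex (ComplexShape.up ℕ)).obj M) ≪≫
        (HomologicalComplex.extendHomologyIso _ _ (by simp)).symm ≪≫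
        (HomologicalComplex.homologyFunctor B _ (m : ℤ)).mapIso (DerTrunc.mapExtendIso S M).symm⟩
    · have := isStrictlyGE_map S K 0
      exact ⟨(hH0 n (by omega)).iso (CochainComplex.isZero_of_isGE _ 0 n (by omega))⟩
  · exact ⟨(hE p q).some ≪≫ (S.rightDerived p).mapIso (I.isoRightDerivedObj T q ≪≫
      (HomologicalComplex.extendHomologyIso M ComplexShape.embeddingUpNat (by simp)).symm)⟩

/-- The usual form. -/
theorem exists_grothendieck
    (hT : ∀ Q : C, Injective Q → ∀ q : ℕ, 0 < q → IsZero ((S.rightDerived q).obj (T.obj Q)))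
    (X : C) (E₂ : ℕ → ℕ → B) (H : ℕ → B) (Z : B) (hZ : IsZero Z)
    (hH : ∀ n : ℕ, Nonempty (H n ≅ ((T ⋙ S).rightDerived n).obj X))
    (hE : ∀ p q : ℕ, Nonempty (E₂ p q ≅ (S.rightDerived p).obj ((T.rightDerived q).obj X))) :
    ∃ (E : E₂CohomologicalSpectralSequence B)
      (a : SpSeq.Abutment E (fun n : ℤ => if 0 ≤ n then H n.toNat else Z)),
      (∀ n, a.IsFinite n) ∧ SpSeq.IsBounded E ∧
      ∀ p q : ℤ, Nonempty ((E.page 2 le_rfl).X (p, q) ≅
        (if 0 ≤ p ∧ 0 ≤ q then E₂ p.toNat q.toNat else Z)) := by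
  obtain ⟨E, a, ha, hb, hc⟩ := exists_composite S T hT X
    (fun pq : ℤ × ℤ => if 0 ≤ pq.1 ∧ 0 ≤ pq.2 then E₂ pq.1.toNat pq.2.toNat else Z)
    (fun n : ℤ => if 0 ≤ n then H n.toNat else Z)
    (fun n hn => by rw [if_neg (by omega)]; exact hZ)
    (fun n => by simpa using hH n)
    (fun pq h => by rw [if_neg (by omega)]; exact hZ)
    (fun p q => by simpa using hE p q)
  exact ⟨E, a, ha, hb, fun p q => hc (p, q)⟩

end GrothLib.GrothSS
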