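import Mathlib.Algebra.Homology.Factorizations.CM5a
import Mathlib.Algebra.Homology.Embedding.CochainComplex
import Mathlib.Algebra.Homology.HomologicalComplexAbelian
import Mathlib.CategoryTheory.Functor.OfSequence
import Mathlib.Order.WithBotTop
import Mathlib.CategoryTheory.Preadditive.Injective.Resolution

/-! # A sequence of injective complexes killing cohomology from below -/

set_option autoImplicit false
universe v u

open CategoryTheory CategoryTheory.Limits

namespace GrothLib.GrothSS

variable {A : Type u} [Category.{v} A] [Abelian A]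

/-- Injective resolutions give enough injectives. -/
theorem enoughInjectives_of_resolutions (A : Type u) [Category.{v} A] [Abelian A]
    [HasInjectiveResolutions A] : EnoughInjectives A :=
  ⟨fun X =>
    have : HasInjectiveResolution X := HasInjectiveResolutions.out X
    let I := this.out.some
    ⟨{ J := I.cocomplex.X 0, injective := I.injective 0, f := I.ι.f 0, mono := inferInstanceAs (Mono (I.ι.f 0)) }⟩⟩

variable [EnoughInjectives A]

/-- A complex of injectives in degrees at least `q`. -/
structure Stage (A : Type u) [Category.{v} A] [Abelian A] (q : ℕ) where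
  /-- The complex. -/
  cx : CochainComplex A ℤ
  strictlyGE : cx.IsStrictlyGE q
  injective : ∀ i, Injective (cx.X i)

theorem exists_next {q : ℕ} (s : Stage A q) : ∃ (t : Stage A (q + 1)) (f : s.cx ⟶ t.cx),
    ∀ i : ℤ, (q : ℤ) + 1 ≤ i → QuasiIsoAt f i := by
  obtain ⟨L, g, hg, hL, hLge⟩ :=
    CochainComplex.Plus.modelCategoryQuillen.exists_quasiIso_injective
      (s.cx.truncGE ((q : ℤ) + 1)) ((q : ℤ) + 1)
  refine ⟨⟨L, by push_cast; exact hLge, hL⟩, s.cx.πTruncGE ((q : ℤ) + 1) ≫ g, fun i hi => ?_⟩
  have := s.cx.quasiIsoAt_πTruncGE ((q : ℤ) + 1) i hi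
  exact quasiIsoAt_comp _ g i

/-- All stages. -/
noncomputable def stage (s : Stage A 0) : ∀ q, Stage A q
  | 0 => s
  | q + 1 => (exists_next (stage s q)).choose

/-- The maps between successive stages. -/
noncomputable def stageMap (s : Stage A 0) (q : ℕ) : (stage s q).cx ⟶ (stage s (q + 1)).cx :=
  (exists_next (stage s q)).choose_spec.choose

lemma quasiIsoAt_stageMap (s : Stage A 0) (q : ℕ) (i : ℤ) (hi : (q : ℤ) + 1 ≤ i) :
    QuasiIsoAt (stageMap s q) i :=
  (exists_next (stage s q)).choose_spec.choose_spec i hi

/-- The sequence. -/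
noncomputable def tower (s : Stage A 0) : ℕ ⥤ CochainComplex A ℤ := Functor.ofSequence (stageMap s)

lemma tower_map_succ (s : Stage A 0) (q : ℕ) :
    (tower s).map (homOfLE (Nat.le_add_right q 1)) = stageMap s q :=
  Functor.ofSequence_map_homOfLE_succ _ q

lemma nonempty_homology_tower_iso (s : Stage A 0) (i : ℤ) :
    ∀ q : ℕ, (q : ℤ) ≤ i → Nonempty ((stage s q).cx.homology i ≅ s.cx.homology i)
  | 0, _ => ⟨Iso.refl _⟩
  | q + 1, h => by
    obtain ⟨e⟩ := nonempty_homology_tower_iso s i q (by omega)
    have := quasiIsoAt_stageMap s q i (by push_cast at h; exact h)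
    exact ⟨(isoOfQuasiIsoAt (stageMap s q) i).symm ≪≫ e⟩

section Extend

variable {D : Type*} [Category* D] [HasZeroObject D] [HasZeroMorphisms D] (G : ℕ ⥤ D)

open ZeroObject in
/-- The object at a position, zero at the top. -/
noncomputable def extTopObj : WithTop ℕ → D
  | ⊤ => 0
  | (n : ℕ) => G.obj n

open ZeroObject in
/-- The maps between positions. -/
noncomputable def extTopMap : ∀ {i j : WithTop ℕ}, i ≤ j → (extTopObj G i ⟶ extTopObj G j)
  | _, ⊤, _ => 0
  | (a : ℕ), (b : ℕ), h => G.map (homOfLE (WithTop.coe_le_coe.1 h))
  | ⊤, (b : ℕ), h => absurd h (by simp)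

/-- Extend a sequence by zero at the top. -/
noncomputable def extTop : WithTop ℕ ⥤ D where
  obj := extTopObj G
  map {i j} φ := extTopMap G (leOfHom φ)
  map_id i := by
    cases i with
    | top => exact (isZero_zero D).eq_of_src _ _
    | coe a => exact G.map_id a
  map_comp {i j k} φ ψ := by
    cases k with
    | top => exact (isZero_zero D).eq_of_tgt _ _
    | coe c =>
      cases j with
      | top => exact absurd (leOfHom ψ) (by simp)
      | coe b =>
        cases i with
        | top => exact absurd (leOfHom φ) (by simp)
        | coe a => exact G.map_comp (homOfLE _) (homOfLE _)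

end Extend

/-- The position of an extended integer. -/
def clampIdx : EInt → WithTop ℕ :=
  WithBotTop.rec (motive := fun _ => WithTop ℕ) ((0 : ℕ) : WithTop ℕ)
    (fun a => ((a.toNat : ℕ) : WithTop ℕ)) ⊤

lemma clampIdx_monotone : Monotone clampIdx := by
  intro i j h
  induction i using WithBotTop.rec with
  | bot =>
    induction j using WithBotTop.rec with
    | bot => exact le_rfl
    | coe b => exact WithTop.coe_le_coe.2 (Nat.zero_le _)
    | top => exact le_top
  | coe a =>
    induction j using WithBotTop.rec with
    | bot => simp at h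
    | coe b => exact WithTop.coe_le_coe.2 (Int.toNat_le_toNat (WithBotTop.coe_le_coe.1 h))
    | top => exact le_top
  | top =>
    induction j using WithBotTop.rec with
    | bot => simp at h
    | coe b => simp [WithBotTop.coe] at h
    | top => exact le_rfl

/-- The sequence, indexed by extended integers. -/
noncomputable def einTower (s : Stage A 0) : EInt ⥤ CochainComplex A ℤ :=
  clampIdx_monotone.functor ⋙ extTop (tower s)

end GrothLib.GrothSS
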