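import Groth.Agent.Lib.DerCat.DimShiftRD
import Groth.Agent.Lib.GrothSS.Tower
import Mathlib.Algebra.Homology.HomologySequence
import Mathlib.Algebra.Homology.HomologicalComplexAbelian
import Mathlib.Algebra.Homology.ShortComplex.ExactFunctor

/-! # An exact family of complexes vanishing on injectives computes derived functors -/

set_option autoImplicit false
universe v v' u u'

open CategoryTheory CategoryTheory.Limits

namespace GrothLib.GrothSS

open GrothLib.HomGamma

variable {A : Type u} [Category.{v} A] [Abelian A] [EnoughInjectives A]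
  {B : Type u'} [Category.{v'} B] [Abelian B] (C : A ⥤ CochainComplex B ℕ) [C.Additive]
  (hC : ∀ S : ShortComplex A, S.ShortExact → (S.map C).ShortExact)

/-- The cohomology in degree `n`. -/
noncomputable abbrev cohomFun (n : ℕ) : A ⥤ B :=
  C ⋙ HomologicalComplex.homologyFunctor B (ComplexShape.up ℕ) n

omit [EnoughInjectives A] [C.Additive] in
lemma mono_homologyMap_zero {K L : CochainComplex B ℕ} (f : K ⟶ L) [Mono (f.f 0)] :
    Mono (HomologicalComplex.homologyMap f 0) := by
  have : Mono (HomologicalComplex.cyclesMap f 0) := by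
    have : Mono (HomologicalComplex.cyclesMap f 0 ≫ L.iCycles 0) := by
      rw [HomologicalComplex.cyclesMap_i]; exact mono_comp _ _
    exact mono_of_mono _ (L.iCycles 0)
  have hK : IsIso (K.homologyπ 0) := K.isoHomologyπ₀.isIso_hom
  have hL : IsIso (L.homologyπ 0) := L.isoHomologyπ₀.isIso_hom
  have : Mono (K.homologyπ 0 ≫ HomologicalComplex.homologyMap f 0) := by
    rw [HomologicalComplex.homologyπ_naturality]; exact mono_comp _ _
  have : Mono (inv (K.homologyπ 0) ≫ K.homologyπ 0 ≫ HomologicalComplex.homologyMap f 0) :=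
    mono_comp _ _
  rwa [IsIso.inv_hom_id_assoc] at this

include hC in
omit [EnoughInjectives A] in
theorem preservesFiniteLimits_cohomFun_zero : PreservesFiniteLimits (cohomFun C 0) := by
  refine ((Functor.preservesFiniteLimits_tfae (cohomFun C 0)).out 0 3).1 fun S hS => ?_
  have hS' := hC S hS
  have : Mono ((C.map S.f).f 0) := by
    have := hS'.mono_f
    exact inferInstanceAs (Mono ((HomologicalComplex.eval B (ComplexShape.up ℕ) 0).map (S.map C).f))
  exact ⟨hS'.homology_exact₂ 0, mono_homologyMap_zero _⟩

include hC in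
/-- The cohomology functors are the derived functors of the one in degree `0`. -/
theorem nonempty_rightDerived_cohomFun_iso [HasInjectiveResolutions A]
    (hI : ∀ I : A, Injective I → ∀ n : ℕ, IsZero ((C.obj I).homology (n + 1))) :
    ∀ (n : ℕ) (X : A), Nonempty (((cohomFun C 0).rightDerived n).obj X ≅ (cohomFun C n).obj X) := by
  have := preservesFiniteLimits_cohomFun_zero C hC
  intro n
  induction n with
  | zero => exact fun X => ⟨(Functor.rightDerivedZeroIsoSelf (cohomFun C 0)).app X⟩
  | succ n ih =>
    intro X
    let S : ShortComplex A :=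
      ShortComplex.mk (Injective.ι X) (cokernel.π (Injective.ι X)) (cokernel.condition _)
    have hS : S.ShortExact := { exact := ShortComplex.exact_cokernel _ }
    have : Injective S.X₂ := inferInstanceAs (Injective (Injective.under X))
    have hS' := hC S hS
    have hz := hI S.X₂ inferInstance
    have : Epi (hS'.δ n (n + 1) rfl) :=
      (hS'.homology_exact₁ n (n + 1) rfl).epi_f ((hz n).eq_of_tgt _ _)
    cases n with
    | zero =>
      let e : cokernel ((cohomFun C 0).map S.g) ≅ (cohomFun C 1).obj X :=
        (cokernelIsCokernel _).coconePointUniqueUpToIso (hS'.homology_exact₃ 0 1 rfl).gIsCokernel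
      exact ⟨shiftIsoOne hS (cohomFun C 0) ≪≫ e⟩
    | succ m =>
      have : Mono (hS'.δ (m + 1) (m + 1 + 1) rfl) :=
        (hS'.homology_exact₃ (m + 1) (m + 1 + 1) rfl).mono_g ((hz m).eq_of_src _ _)
      have hδ := isIso_of_mono_of_epi (hS'.δ (m + 1) (m + 1 + 1) rfl)
      obtain ⟨e⟩ := ih S.X₃
      exact ⟨shiftIso hS (cohomFun C 0) m ≪≫ e ≪≫ @asIso _ _ _ _ _ hδ⟩

end GrothLib.GrothSS
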