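import Mathlib.Algebra.Homology.SpectralObject.FirstPage
import Mathlib.Algebra.Homology.SpectralObject.EpiMono
import Mathlib.Data.Int.Interval
import Groth.Prelude.Def_SpSeq

/-! # The abutment of a first quadrant spectral object -/

set_option autoImplicit false
universe v u

open CategoryTheory CategoryTheory.Limits ComposableArrows CategoryTheory.Abelian

namespace GrothLib.GrothSS

variable {C : Type u} [Category.{v} C] [Abelian C] (Y : SpectralObject C EInt)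

/-- A position as an extended integer. -/
abbrev ei (a : ℤ) : EInt := WithBotTop.coe a

/-- `H^n(⊥ ≤ ⊤)`. -/
noncomputable abbrev total (n : ℤ) : C := (Y.H n).obj (mk₁ (homOfLE (bot_le : (⊥ : EInt) ≤ ⊤)))

variable {H' : ℤ → C} (e : ∀ n, total Y n ≅ H' n)

/-- The map to `H^n(i ≤ ⊤)`. -/
noncomputable def toUpper (n : ℤ) (i : EInt) :
    H' n ⟶ (Y.H n).obj (mk₁ (homOfLE (le_top : i ≤ ⊤))) :=
  (e n).inv ≫ (Y.H n).map (twoδ₁Toδ₀' (⊥ : EInt) i ⊤ bot_le le_top)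

lemma toUpper_comp (n : ℤ) {i j : EInt} (h : i ≤ j) :
    toUpper Y e n i ≫ (Y.H n).map (twoδ₁Toδ₀' i j ⊤ h le_top) = toUpper Y e n j := by
  rw [toUpper, Category.assoc, ← Functor.map_comp]
  rfl

lemma toUpper_δ (n n' : ℤ) (hn : n + 1 = n') (i : EInt) :
    toUpper Y e n i ≫ Y.δ (homOfLE (bot_le : ⊥ ≤ i)) (homOfLE le_top) n n' hn = 0 := by
  rw [toUpper, Category.assoc]
  erw [Y.zero₃ (homOfLE (bot_le : ⊥ ≤ i)) (homOfLE (le_top : i ≤ ⊤)) _ rfl n n' hn]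
  rw [comp_zero]

/-- The filtration. -/
noncomputable def fil (n p : ℤ) : Subobject (H' n) := kernelSubobject (toUpper Y e n (ei (n - p + 1)))

lemma fil_antitone (n : ℤ) : Antitone (fil Y e n) := fun p p' h => by
  refine le_kernelSubobject _ _ ?_
  have hle : ei (n - p' + 1) ≤ ei (n - p + 1) := WithBotTop.coe_le_coe.2 (by omega)
  rw [← toUpper_comp Y e n hle, ← Category.assoc]
  erw [kernelSubobject_arrow_comp]
  exact zero_comp

variable [Y.IsFirstQuadrant]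

lemma fil_eq_top (n p : ℤ) (hp : p ≤ 0) : fil Y e n p = ⊤ := by
  have h : IsZero ((Y.H n).obj (mk₁ (homOfLE (le_top : ei (n - p + 1) ≤ ⊤)))) :=
    Y.isZero₂_of_isFirstQuadrant _ _ _ n (WithBotTop.coe_lt_coe.2 (by omega))
  rw [eq_top_iff]
  exact le_kernelSubobject _ _ (h.eq_of_tgt _ _)

lemma fil_eq_bot (n p : ℤ) (hp : n + 1 ≤ p) : fil Y e n p = ⊥ := by
  have h : IsZero ((Y.H n).obj (mk₁ (homOfLE (bot_le : ⊥ ≤ ei (n - p + 1))))) :=
    Y.isZero₁_of_isFirstQuadrant _ _ _ (WithBotTop.coe_le_coe.2 (by omega)) n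
  have : Mono ((Y.H n).map (twoδ₁Toδ₀' (⊥ : EInt) (ei (n - p + 1)) ⊤ bot_le le_top)) :=
    Y.mono_H_map_twoδ₁Toδ₀' n _ _ _ _ _ h
  have : Mono (toUpper Y e n (ei (n - p + 1))) := mono_comp _ _
  rw [← Subobject.mk_arrow (fil Y e n p), ← le_bot_iff]
  refine le_of_eq ?_
  rw [Subobject.mk_eq_bot_iff_zero]
  exact zero_of_comp_mono _ (kernelSubobject_arrow_comp _)

omit [Y.IsFirstQuadrant] in
/-- The limit term is the graded piece. -/
theorem nonempty_grPiece_iso (n p : ℤ) (n₀ n₂ : ℤ) (h₀ : n₀ + 1 = n) (h₂ : n + 1 = n₂)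
    (i j : EInt) (hij : i ≤ j) (hi : i = ei (n - p)) (hj : j = ei (n - p + 1)) :
    Nonempty (Y.E (homOfLE (bot_le : ⊥ ≤ i)) (homOfLE hij) (homOfLE (le_top : j ≤ ⊤)) n₀ n n₂ h₀ h₂ ≅
      SpSeq.grPiece (fil Y e n) (fil_antitone Y e n) p) := by
  subst hi hj
  set i := ei (n - p) with hi
  set j := ei (n - p + 1) with hj
  let f₁ := homOfLE (bot_le : ⊥ ≤ i)
  let f₂ := homOfLE hij
  let f₃ := homOfLE (le_top : j ≤ ⊤)
  let F := fil Y e n p
  let G := fil Y e n (p + 1)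
  have hG : G = kernelSubobject (toUpper Y e n i) := by
    change kernelSubobject (toUpper Y e n (ei (n - (p + 1) + 1))) = _
    rw [show n - (p + 1) + 1 = n - p by omega]
  let ι := Y.ιE f₁ f₂ f₃ n₀ n n₂ h₀ h₂ ≫ Y.fromOpcycles f₂ f₃ (homOfLE le_top) rfl n
  have : Mono ι := inferInstanceAs (Mono (Y.kernelSequenceE f₁ f₂ f₃ _ rfl n₀ n n₂ h₀ h₂).f)
  let ψ : (F : C) ⟶ Y.E f₁ f₂ f₃ n₀ n n₂ h₀ h₂ :=
    Y.liftE f₁ f₂ f₃ (homOfLE le_top) rfl n₀ n n₂ (F.arrow ≫ toUpper Y e n i)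
      (by rw [Category.assoc]; erw [toUpper_comp Y e n hij]; exact kernelSubobject_arrow_comp _)
      h₂ (by rw [Category.assoc]; erw [toUpper_δ]; exact comp_zero) h₀
  have hψ : ψ ≫ ι = F.arrow ≫ toUpper Y e n i := Y.liftE_ιE_fromOpcycles ..
  have hepi : Epi ψ := by
    let b : (Y.H n).obj (mk₁ (homOfLE (bot_le : ⊥ ≤ j))) ⟶ H' n :=
      (Y.H n).map (twoδ₂Toδ₁' (⊥ : EInt) j ⊤ bot_le le_top) ≫ (e n).hom
    have hb : b ≫ toUpper Y e n j = 0 := by
      simp only [b, toUpper, Category.assoc, Iso.hom_inv_id_assoc]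
      exact Y.zero₂ (homOfLE (bot_le : ⊥ ≤ j)) f₃ _ rfl n
    let l : _ ⟶ (F : C) := factorThruKernelSubobject _ b hb
    let π : _ ⟶ Y.E f₁ f₂ f₃ n₀ n n₂ h₀ h₂ :=
      Y.toCycles f₁ f₂ (homOfLE (bot_le : ⊥ ≤ j)) rfl n ≫ Y.πE f₁ f₂ f₃ n₀ n n₂ h₀ h₂
    have : Epi π := inferInstanceAs (Epi (Y.cokernelSequenceE f₁ f₂ f₃ _ rfl n₀ n n₂ h₀ h₂).g)
    have hl : l ≫ F.arrow = b := factorThruKernelSubobject_comp_arrow _ _ _
    have : l ≫ ψ = π := by
      rw [← cancel_mono ι, Category.assoc, hψ, reassoc_of% hl]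
      simp only [π, ι, b, toUpper, Category.assoc, Iso.hom_inv_id_assoc, SpectralObject.πE_ιE_assoc,
        SpectralObject.p_fromOpcycles, SpectralObject.toCycles_i_assoc]
      rw [← Functor.map_comp, ← Functor.map_comp]
      rfl
    exact epi_of_epi_fac this
  have hle : G ≤ F := fil_antitone Y e n (by omega)
  have hG0 : G.arrow ≫ toUpper Y e n i = 0 := by
    rw [hG]; exact kernelSubobject_arrow_comp _
  have hw : G.ofLE F hle ≫ ψ = 0 := by
    rw [← cancel_mono ι, Category.assoc, hψ, zero_comp, Subobject.ofLE_arrow_assoc, hG0]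
  have hex : (ShortComplex.mk (G.ofLE F hle) ψ hw).Exact := by
    rw [ShortComplex.exact_iff_exact_up_to_refinements]
    intro W x hx
    have hx' : (x ≫ F.arrow) ≫ toUpper Y e n i = 0 := by
      rw [Category.assoc, ← hψ, ← Category.assoc]
      erw [hx]
      exact zero_comp
    have hfac : G.Factors (x ≫ F.arrow) :=
      Subobject.factors_of_le _ hG.ge (kernelSubobject_factors _ _ hx')
    refine ⟨W, 𝟙 W, inferInstance, G.factorThru _ hfac, ?_⟩
    rw [← cancel_mono F.arrow]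
    simp
  exact ⟨(cokernelIsCokernel _).coconePointUniqueUpToIso hex.gIsCokernel |>.symm⟩

/-- Where the terms outside the first quadrant vanish. -/
lemma isZero_page (r : ℤ) (hr : 2 ≤ r) (pq : ℤ × ℤ) (h : pq.1 < 0 ∨ pq.2 < 0) :
    IsZero ((Y.E₂SpectralSequence.page r hr).X pq) := by
  apply SpectralObject.isZero_spectralSequence_page_X_of_isZero_H' _ _ _ hr
  rcases h with h | h
  · exact Y.isZero₂_of_isFirstQuadrant _ _ _ _ (by simp; omega)
  · exact Y.isZero₁_of_isFirstQuadrant _ _ _ (by simp; omega) _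

omit [Y.IsFirstQuadrant] in
lemma isZero_first (i₁ : EInt) (hi : i₁ ≤ ei 0) [Y.IsFirstQuadrant] (n : ℤ) :
    IsZero ((Y.H n).obj (mk₁ (homOfLE (bot_le : ⊥ ≤ i₁)))) :=
  Y.isZero₁_of_isFirstQuadrant _ _ _ hi n

/-- The page from which a position is stationary. -/
def stableRank (pq : ℤ × ℤ) : ℤ := max 2 (max (pq.1 + 1) (pq.2 + 2))

lemma stationaryAt (pq : ℤ × ℤ) : SpSeq.StationaryAt Y.E₂SpectralSequence pq (stableRank pq) := by
  refine ⟨le_max_left _ _, fun r h₀ hr => ⟨?_, ?_⟩⟩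
  · refine (isZero_page Y r h₀ _ (Or.inl ?_)).eq_of_src _ _
    simp only [stableRank] at hr
    simp only [Prod.fst_sub]
    omega
  · refine (isZero_page Y r h₀ _ (Or.inr ?_)).eq_of_tgt _ _
    simp only [stableRank] at hr
    simp only [Prod.snd_add]
    omega

/-- The stable page is the limit term. -/
theorem nonempty_page_stable_iso (pq : ℤ × ℤ) :
    Nonempty ((Y.E₂SpectralSequence.page (stableRank pq) (stationaryAt Y pq).1).X pq ≅
      SpSeq.grPiece (fil Y e (pq.1 + pq.2)) (fil_antitone Y e _) pq.1) := by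
  obtain ⟨p, q⟩ := pq
  set r := stableRank (p, q) with hr'
  have hr : 2 ≤ r := le_max_left _ _
  have hp : p + 1 ≤ r := (le_max_left _ _).trans (le_max_right _ _)
  have hq : q + 2 ≤ r := (le_max_right _ _).trans (le_max_right _ _)
  have h₀₁ : ei (q - r + 2) ≤ ei q := WithBotTop.coe_le_coe.2 (by omega)
  have h₁₂ : ei q ≤ ei (q + 1) := WithBotTop.coe_le_coe.2 (by omega)
  have h₂₃ : ei (q + 1) ≤ ei (q + r - 1) := WithBotTop.coe_le_coe.2 (by omega)
  let α := Y.spectralSequencePageXIso SpectralObject.coreE₂Cohomological r hr (p, q)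
    (ei (q - r + 2)) (ei q) (ei (q + 1)) (ei (q + r - 1)) rfl rfl rfl rfl
    (p + q - 1) (p + q) (p + q + 1) rfl (by omega) (by omega)
  let β := Y.isoMapFourδ₁Toδ₀' ⊥ (ei (q - r + 2)) (ei q) (ei (q + 1)) (ei (q + r - 1))
    bot_le h₀₁ h₁₂ h₂₃ (p + q - 1) (p + q) (p + q + 1)
    (isZero_first Y _ (WithBotTop.coe_le_coe.2 (by omega)) _) (by omega) (by omega)
  let γ := Y.isoMapFourδ₄Toδ₃' ⊥ (ei q) (ei (q + 1)) (ei (q + r - 1)) ⊤
    bot_le h₁₂ h₂₃ le_top (p + q - 1) (p + q) (p + q + 1)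
    (Y.isZero₂_of_isFirstQuadrant _ _ _ _ (WithBotTop.coe_lt_coe.2 (by omega))) (by omega) (by omega)
  obtain ⟨δ⟩ := nonempty_grPiece_iso Y e (p + q) p (p + q - 1) (p + q + 1) (by omega) (by omega)
    (ei q) (ei (q + 1)) h₁₂ (congrArg ei (by omega)) (congrArg ei (by omega))
  exact ⟨α ≪≫ β.symm ≪≫ γ ≪≫ δ⟩

/-- The abutment of a first quadrant spectral object. -/
noncomputable def abutment : SpSeq.Abutment Y.E₂SpectralSequence H' where
  fil := fil Y e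
  anti := fil_antitone Y e
  rk := stableRank
  stat := stationaryAt Y
  β pq := (nonempty_page_stable_iso Y e pq).some

lemma abutment_isFinite (n : ℤ) : (abutment Y e).IsFinite n :=
  ⟨⟨0, fil_eq_top Y e n 0 le_rfl⟩, ⟨n + 1, fil_eq_bot Y e n _ le_rfl⟩⟩

lemma isBounded : SpSeq.IsBounded Y.E₂SpectralSequence := fun n => by
  refine (Set.finite_Icc 0 n).subset fun p hp => ?_
  simp only [Set.mem_Icc]
  by_contra hc
  exact hp (isZero_page Y 2 le_rfl _ (by dsimp only; omega))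

/-- The second page. -/
theorem nonempty_page_two_iso (E₂ : ℤ × ℤ → C)
    (h0 : ∀ pq : ℤ × ℤ, pq.1 < 0 ∨ pq.2 < 0 → IsZero (E₂ pq))
    (h : ∀ p q : ℕ, ∀ hle : ei (q : ℤ) ≤ ei ((q : ℤ) + 1),
      Nonempty ((Y.H ((p : ℤ) + q)).obj (mk₁ (homOfLE hle)) ≅ E₂ ((p : ℤ), (q : ℤ)))) (pq : ℤ × ℤ) :
    Nonempty ((Y.E₂SpectralSequence.page 2 le_rfl).X pq ≅ E₂ pq) := by
  by_cases hpq : pq.1 < 0 ∨ pq.2 < 0
  · exact ⟨(isZero_page Y 2 le_rfl pq hpq).iso (h0 pq hpq)⟩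
  obtain ⟨p, q⟩ := pq
  obtain ⟨p, rfl⟩ : ∃ m : ℕ, p = m := ⟨p.toNat, by dsimp only at hpq; omega⟩
  obtain ⟨q, rfl⟩ : ∃ m : ℕ, q = m := ⟨q.toNat, by dsimp only at hpq; omega⟩
  obtain ⟨g⟩ := h p q (WithBotTop.coe_le_coe.2 (by omega))
  exact ⟨Y.spectralSequenceFirstPageXIso SpectralObject.coreE₂Cohomological ((p : ℤ), (q : ℤ))
    (ei q) (ei (q + 1)) rfl rfl ((p : ℤ) + q) rfl ≪≫ g⟩

end GrothLib.GrothSS
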