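import Groth.Agent.Lib.GrothSS.Main
import Groth.Agent.Lib.GrothSS.HomExt
import Groth.Agent.Lib.SheafCoh.DerivedComp
import Groth.Prelude.Def_CohCx
import Mathlib.CategoryTheory.Sites.Adjunction
import Mathlib.CategoryTheory.Sites.PreservesSheafification

/-! # The spectral sequence from presheaves to sheaves -/

set_option autoImplicit false
universe u

open CategoryTheory CategoryTheory.Limits Opposite

namespace GrothLib.GrothSS

open GrothLib

variable {C : Type u} [SmallCategory C] (J : GrothendieckTopology C)

/-- A presheaf as a sheaf for the trivial topology. -/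
noncomputable abbrev botSheaf : (Cᵒᵖ ⥤ AddCommGrpCat.{u}) ⥤ Sheaf (⊥ : GrothendieckTopology C) AddCommGrpCat.{u} :=
  (sheafBotEquivalence AddCommGrpCat.{u}).inverse

theorem injective_botSheaf (I : Sheaf J AddCommGrpCat.{u}) [hI : Injective I] :
    Injective (botSheaf.obj I.obj) := by
  have : (presheafToSheaf J AddCommGrpCat.{u}).PreservesMonomorphisms := inferInstance
  have hP : Injective I.obj :=
    @Injective.injective_of_adjoint _ _ _ _ _ _ this (sheafificationAdjunction J AddCommGrpCat.{u}) I hI
  exact ⟨fun {X Y} g f hf => by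
    have : Mono f.hom :=
      inferInstanceAs (Mono ((sheafToPresheaf (⊥ : GrothendieckTopology C) AddCommGrpCat.{u}).map f))
    exact ⟨⟨Injective.factorThru (J := I.obj) g.hom f.hom⟩,
      Sheaf.hom_ext (Injective.comp_factorThru (J := I.obj) g.hom f.hom)⟩⟩

instance : (botSheaf : (Cᵒᵖ ⥤ AddCommGrpCat.{u}) ⥤ _).Additive where
  map_add := by intros; rfl

/-- `R^q` of `F ↦ F` viewed on the trivial topology is `H^q(-, F)`. -/
noncomputable def rightDerivedBotIso (F : Sheaf J AddCommGrpCat.{u}) (q : ℕ) :
    ((sheafToPresheaf J AddCommGrpCat.{u} ⋙ botSheaf).rightDerived q).obj F ≅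
      botSheaf.obj (F.cohomologyPresheaf q) :=
  haveI : (botSheaf : (Cᵒᵖ ⥤ AddCommGrpCat.{u}) ⥤ _).PreservesHomology :=
    Functor.preservesHomologyOfExact _
  SheafCoh.rightDerivedCompIso _ botSheaf (Iso.refl _) F q

variable (R : Cᵒᵖ ⥤ Type u)

/-- The free abelian sheaf on a presheaf, for the trivial topology. -/
noncomputable abbrev freeBot : Sheaf (⊥ : GrothendieckTopology C) AddCommGrpCat.{u} :=
  (presheafToSheaf (⊥ : GrothendieckTopology C) AddCommGrpCat.{u}).obj (R ⋙ AddCommGrpCat.free.{u})

/-- The free abelian sheaf on the associated sheaf. -/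
noncomputable abbrev freeSh : Sheaf J AddCommGrpCat.{u} :=
  (presheafToSheaf J AddCommGrpCat.{u}).obj
    (((presheafToSheaf J (Type u)).obj R).obj ⋙ AddCommGrpCat.free.{u})

/-- Sheafifying the free presheaf. -/
noncomputable def freeShIso :
    freeSh J R ≅ (presheafToSheaf J AddCommGrpCat.{u}).obj (R ⋙ AddCommGrpCat.free.{u}) :=
  have : J.PreservesSheafification AddCommGrpCat.free.{u} :=
    Sheaf.preservesSheafification_of_adjunction J AddCommGrpCat.adj.{u}
  (presheafToSheafCompComposeAndSheafifyIso J AddCommGrpCat.free.{u}).app R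

/-- Maps out of the free sheaves. -/
noncomputable def homFreeBotEquiv (F : Sheaf J AddCommGrpCat.{u}) :
    (freeSh J R ⟶ F) ≃+ (freeBot R ⟶ botSheaf.obj F.obj) :=
  { (freeShIso J R).homFromEquiv.trans
      (((sheafificationAdjunction J AddCommGrpCat.{u}).homEquiv _ F).trans
        ((sheafificationAdjunction (⊥ : GrothendieckTopology C) AddCommGrpCat.{u}).homEquiv
          (R ⋙ AddCommGrpCat.free.{u}) (botSheaf.obj F.obj)).symm) with
    map_add' := fun a b => by
      change ((sheafificationAdjunction (⊥ : GrothendieckTopology C) AddCommGrpCat.{u}).homAddEquiv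
          _ (botSheaf.obj F.obj)).symm
        ((sheafificationAdjunction J AddCommGrpCat.{u}).homAddEquiv _ F ((freeShIso J R).inv ≫ (a + b))) = _
      rw [Preadditive.comp_add, map_add]
      exact map_add ((sheafificationAdjunction (⊥ : GrothendieckTopology C) AddCommGrpCat.{u}).homAddEquiv
        _ (botSheaf.obj F.obj)).symm _ _ }

/-- The composite is `Hom` out of the free sheaf. -/
noncomputable def botCompIso :
    (sheafToPresheaf J AddCommGrpCat.{u} ⋙ botSheaf) ⋙ homFun (freeBot R) ≅ homFun (freeSh J R) :=
  NatIso.ofComponents (fun F => (homFreeBotEquiv J R F).symm.toAddCommGrpIso)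
    (fun {F G} g => by
      ext a
      obtain ⟨a, rfl⟩ := (homFreeBotEquiv J R F).surjective a
      change (homFreeBotEquiv J R G).symm (homFreeBotEquiv J R F a ≫ botSheaf.map g.hom) =
        (homFreeBotEquiv J R F).symm (homFreeBotEquiv J R F a) ≫ g
      rw [AddEquiv.symm_apply_apply, AddEquiv.symm_apply_eq]
      change ((sheafificationAdjunction (⊥ : GrothendieckTopology C) AddCommGrpCat.{u}).homEquiv _ (botSheaf.obj F.obj)).symm
          ((sheafificationAdjunction J AddCommGrpCat.{u}).homEquiv _ _ ((freeShIso J R).inv ≫ a)) ≫ _ =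
        ((sheafificationAdjunction (⊥ : GrothendieckTopology C) AddCommGrpCat.{u}).homEquiv _ (botSheaf.obj G.obj)).symm
          ((sheafificationAdjunction J AddCommGrpCat.{u}).homEquiv _ _ ((freeShIso J R).inv ≫ a ≫ g))
      rw [← Category.assoc, Adjunction.homEquiv_naturality_right]
      exact (Adjunction.homEquiv_naturality_right_symm _ _ _).symm)

theorem preservesFiniteLimits_homFun {A : Type*} [Category.{u} A] [Abelian A] (Z : A) :
    PreservesFiniteLimits (homFun Z) :=
  have : PreservesLimitsOfSize.{0, 0} (homFun Z) :=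
    have : PreservesLimitsOfSize.{0, 0} (homFun Z ⋙ CategoryTheory.forget AddCommGrpCat.{u}) :=
      inferInstanceAs (PreservesLimitsOfSize.{0, 0} (coyoneda.obj (op Z)))
    preservesLimits_of_reflects_of_preserves _ (CategoryTheory.forget AddCommGrpCat.{u})
  inferInstance

end GrothLib.GrothSS
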