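import Mathlib.CategoryTheory.Triangulated.SpectralObject
import Mathlib.CategoryTheory.Triangulated.HomologicalFunctor
import Mathlib.Algebra.Homology.SpectralObject.Basic

/-! # A homological functor turns spectral objects into spectral objects -/

set_option autoImplicit false
universe v v' w u u' w'

open CategoryTheory CategoryTheory.Limits CategoryTheory.Pretriangulated ComposableArrows

namespace GrothLib.GrothSS

variable {D : Type u} [Category.{v} D] [HasZeroObject D] [HasShift D ℤ] [Preadditive D]
  [∀ (n : ℤ), (shiftFunctor D n).Additive] [Pretriangulated D]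
  {A : Type u'} [Category.{v'} A] [Abelian A] {ι : Type w} [Category.{w'} ι]
  (X : Triangulated.SpectralObject D ι) (G : D ⥤ A) [G.ShiftSequence ℤ] [G.IsHomological]

/-- Apply a homological functor, in degrees moved by `k`. -/
noncomputable def mapHomological (k : ℤ) : Abelian.SpectralObject A ι where
  H n := X.ω₁ ⋙ G.shift (n + k)
  δ' n₀ n₁ h :=
    { app := fun D => G.homologySequenceδ (X.ω₂.obj D) (n₀ + k) (n₁ + k) (by omega)
      naturality := fun D D' φ =>
        G.homologySequenceδ_naturality (X.ω₂.obj D) (X.ω₂.obj D') (X.ω₂.map φ) _ _ (by omega) }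
  exact₁' n₀ n₁ h D :=
    (G.homologySequence_exact₁ _ (X.ω₂_obj_distinguished D) (n₀ + k) (n₁ + k)
      (by omega)).exact_toComposableArrows
  exact₂' n D :=
    (G.homologySequence_exact₂ _ (X.ω₂_obj_distinguished D) (n + k)).exact_toComposableArrows
  exact₃' n₀ n₁ h D :=
    (G.homologySequence_exact₃ _ (X.ω₂_obj_distinguished D) (n₀ + k) (n₁ + k)
      (by omega)).exact_toComposableArrows

end GrothLib.GrothSS
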