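import Groth.Prelude.Def_SpSeq
import Mathlib.Algebra.Homology.SpectralSequence.Basic
import Mathlib.Algebra.Homology.ShortComplex.Abelian
import Mathlib.Data.Int.Interval
import Mathlib.Algebra.Homology.Embedding.ExtendHomology
import Mathlib.Algebra.Homology.Embedding.CochainComplex

/-! # A first quadrant first page whose rows are resolutions -/

set_option autoImplicit false
universe v u

open CategoryTheory CategoryTheory.Limits ZeroObject

namespace GrothLib.GrothSS

variable {C : Type u} [Category.{v} C] [Abelian C] (K : ℤ → CochainComplex C ℤ)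

/-- The page built from rows. -/
noncomputable def rowsPage : HomologicalComplex C (ComplexShape.up' ((⟨1, 1 - 1⟩ : ℤ × ℤ))) where
  X pq := (K pq.2).X pq.1
  d pq pq' := if h : pq.2 = pq'.2 then (K pq.2).d pq.1 pq'.1 ≫ eqToHom (by rw [h]) else 0
  shape pq pq' h := by
    obtain ⟨p, q⟩ := pq
    obtain ⟨p', q'⟩ := pq'
    by_cases hq : q = q'
    · subst hq
      rw [dif_pos rfl, (K q).shape p p' (fun hr => h (by simp at hr ⊢; omega))]
      exact zero_comp
    · exact dif_neg hq
  d_comp_d' := by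
    rintro ⟨p, q⟩ ⟨p', q'⟩ ⟨p'', q''⟩ h h'
    simp at h h'
    obtain rfl : q = q' := by omega
    obtain rfl : q = q'' := by omega
    simp

/-- The homology of the page of rows. -/
noncomputable def rowsPageHomology (p q : ℤ) : (rowsPage K).homology (p, q) ≅ (K q).homology p :=
  ShortComplex.homologyMapIso ((HomologicalComplex.isoSc' (rowsPage K) (p - 1, q) (p, q) (p + 1, q)
      (ComplexShape.prev_eq' _ (by simp)) (ComplexShape.next_eq' _ (by simp))) ≪≫
    ShortComplex.isoMk (S₂ := (K q).sc' (p - 1) p (p + 1)) (Iso.refl _) (Iso.refl _) (Iso.refl _)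
      (by simp [rowsPage, HomologicalComplex.sc']; exact (Category.id_comp _).trans (Category.comp_id _).symm)
      (by simp [rowsPage, HomologicalComplex.sc']; exact (Category.id_comp _).trans (Category.comp_id _).symm) ≪≫
    ((K q).isoSc' (p - 1) p (p + 1) (by simp) (by simp)).symm)

/-- The later pages. -/
noncomputable abbrev zeroPage (r : ℤ) : HomologicalComplex C (ComplexShape.up' ((⟨r, 1 - r⟩ : ℤ × ℤ))) where
  X pq := (rowsPage K).homology pq
  d _ _ := 0

/-- All pages. -/
noncomputable def degPage (r : ℤ) : HomologicalComplex C (ComplexShape.up' ((⟨r, 1 - r⟩ : ℤ × ℤ))) :=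
  if h : r = 1 then h ▸ rowsPage K else zeroPage K r

theorem degPage_one : degPage K 1 = rowsPage K := dif_pos rfl

theorem degPage_of_ne {r : ℤ} (h : r ≠ 1) : degPage K r = zeroPage K r := dif_neg h

/-- Homology of a page with zero differential. -/
noncomputable def zeroPageHomology (r : ℤ) (pq : ℤ × ℤ) : (zeroPage K r).homology pq ≅ (zeroPage K r).X pq :=
  (ShortComplex.HomologyData.ofZeros ((zeroPage K r).sc pq) rfl rfl).left.homologyIso

/-- The spectral sequence. -/
noncomputable def degSS : CohomologicalSpectralSequence C 1 where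
  page r _ := degPage K r
  iso r r' pq hrr' _ :=
    if h : r = 1 then
      (HomologicalComplex.homologyFunctor _ _ pq).mapIso (eqToIso (show degPage K r = h ▸ rowsPage K from dif_pos h)) ≪≫
        eqToIso (by
          subst h; subst hrr'
          exact (congrArg (fun P => HomologicalComplex.X P pq) (degPage_of_ne K (by omega))).symm)
    else
      (HomologicalComplex.homologyFunctor _ _ pq).mapIso (eqToIso (degPage_of_ne K h)) ≪≫
        zeroPageHomology K r pq ≪≫
        eqToIso (congrArg (fun P => HomologicalComplex.X P pq) (degPage_of_ne K (r := r') (by omega))).symm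

variable (H : ℤ → C)

/-- The filtration with one step. -/
noncomputable def oneStep (n p : ℤ) : Subobject (H n) := if p ≤ 0 then ⊤ else ⊥

theorem oneStep_antitone (n : ℤ) : Antitone (oneStep H n) := fun p p' h => by
  by_cases hp : p' ≤ 0
  · simp [oneStep, hp, show p ≤ 0 by omega]
  · simp [oneStep, hp]

theorem isZero_grPiece_oneStep {n p : ℤ} (hp : p ≠ 0) :
    IsZero (SpSeq.grPiece (oneStep H n) (oneStep_antitone H n) p) := by
  have e : oneStep H n (p + 1) = oneStep H n p := by
    rcases lt_or_gt_of_ne hp with h | h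
    · simp [oneStep, show p ≤ 0 by omega, show p + 1 ≤ 0 by omega]
    · simp [oneStep, show ¬ p ≤ 0 by omega, show ¬ p + 1 ≤ 0 by omega]
  have : IsIso (Subobject.ofLE (oneStep H n (p + 1)) (oneStep H n p) (oneStep_antitone H n (Int.le_add_one le_rfl))) :=
    ⟨⟨Subobject.ofLE _ _ e.ge, by simp, by simp⟩⟩
  exact isZero_cokernel_of_epi _

/-- The only graded piece. -/
noncomputable def grPieceZero (n : ℤ) : SpSeq.grPiece (oneStep H n) (oneStep_antitone H n) 0 ≅ H n :=
  haveI : IsIso (oneStep H n 0).arrow := (Subobject.isIso_arrow_iff_eq_top _).2 (if_pos le_rfl)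
  have h0 : Subobject.ofLE (oneStep H n (0 + 1)) (oneStep H n 0) (oneStep_antitone H n (Int.le_add_one le_rfl)) = 0 := by
    rw [← cancel_mono (oneStep H n 0).arrow, zero_comp, Subobject.ofLE_arrow]
    have : ∀ T : Subobject (H n), T = ⊥ → T.arrow = 0 := by rintro _ rfl; exact Subobject.bot_arrow
    exact this _ (if_neg (by omega))
  cokernelIsoOfEq h0 ≪≫ cokernelZeroIsoTarget ≪≫ asIso (oneStep H n 0).arrow

variable (hK : ∀ p q : ℤ, p ≠ 0 → IsZero ((K q).homology p)) (hH : ∀ q : ℤ, (K q).homology 0 ≅ H q)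

/-- The abutment. -/
noncomputable def degAbutment : SpSeq.Abutment (degSS K) H where
  fil := oneStep H
  anti := oneStep_antitone H
  rk _ := 2
  stat pq := ⟨by omega, fun r' h₀ h => by
    change (degPage K r').d _ _ = 0 ∧ (degPage K r').d _ _ = 0
    rw [degPage_of_ne K (by omega)]
    exact ⟨rfl, rfl⟩⟩
  β pq :=
    eqToIso (congrArg (fun P => HomologicalComplex.X P pq) (degPage_of_ne K (r := 2) (by omega))) ≪≫
      rowsPageHomology K pq.1 pq.2 ≪≫
      if h : pq.1 = 0 then
        (HomologicalComplex.homologyFunctor C (ComplexShape.up ℤ) pq.1).mapIso (Iso.refl (K pq.2)) ≪≫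
          eqToIso (by rw [h]; rfl) ≪≫ hH pq.2 ≪≫ eqToIso (by rw [h, zero_add]) ≪≫ (grPieceZero H (pq.1 + pq.2)).symm ≪≫
          eqToIso (by rw [h])
      else (hK _ _ h).iso (isZero_grPiece_oneStep H h)

include hK hH in
/-- The spectral sequence of a first page whose rows are resolutions. -/
theorem exists_of_rows (E₁ : ℤ → ℤ → C) (hE : ∀ p q : ℤ, Nonempty ((K q).X p ≅ E₁ p q))
    (hb : ∀ p q : ℤ, p < 0 ∨ q < 0 → IsZero ((K q).X p)) :
    ∃ (E : CohomologicalSpectralSequence C 1) (a : SpSeq.Abutment E H),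
      (∀ n, a.IsFinite n) ∧ SpSeq.IsBounded E ∧
      ∀ p q : ℤ, Nonempty ((E.page 1 le_rfl).X (p, q) ≅ E₁ p q) := by
  refine ⟨degSS K, degAbutment K H hK hH, fun n => ⟨⟨0, show oneStep H n 0 = ⊤ from if_pos le_rfl⟩, ⟨1, show oneStep H n 1 = ⊥ from if_neg (by omega)⟩⟩, fun n => ?_,
    fun p q => ⟨eqToIso (congrArg (fun P => HomologicalComplex.X P (p, q)) (degPage_one K)) ≪≫ (hE p q).some⟩⟩
  refine (Set.finite_Icc (0 : ℤ) n).subset fun p hp => ?_
  by_contra hc
  refine hp ((hb p (n - p) ?_).of_iso (eqToIso (congrArg (fun P => HomologicalComplex.X P (p, n - p)) (degPage_one K))))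
  rw [Set.mem_Icc] at hc
  omega

section Nat

variable (Q : ℕ → CochainComplex C ℕ)

/-- Rows indexed by integers. -/
noncomputable def intRow : ℤ → CochainComplex C ℤ
  | Int.ofNat q => (Q q).extend ComplexShape.embeddingUpNat
  | Int.negSucc _ => 0

/-- The spectral sequence of a first quadrant first page whose rows are resolutions. -/
theorem exists_of_natRows (H' : ℕ → C) (Z : C) (hZ : IsZero Z)
    (h₁ : ∀ p q : ℕ, IsZero ((Q q).homology (p + 1))) (h₀ : ∀ q : ℕ, Nonempty ((Q q).homology 0 ≅ H' q))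
    (E₁ : ℕ → ℕ → C) (hE : ∀ p q : ℕ, Nonempty ((Q q).X p ≅ E₁ p q)) :
    ∃ (E : CohomologicalSpectralSequence C 1)
      (a : SpSeq.Abutment E (fun n : ℤ => if 0 ≤ n then H' n.toNat else Z)),
      (∀ n, a.IsFinite n) ∧ SpSeq.IsBounded E ∧
      ∀ p q : ℤ, Nonempty ((E.page 1 le_rfl).X (p, q) ≅
        (if 0 ≤ p ∧ 0 ≤ q then E₁ p.toNat q.toNat else Z)) := by
  have hz0 : ∀ p : ℤ, IsZero ((0 : CochainComplex C ℤ).X p) := fun p =>
    (HomologicalComplex.eval C (ComplexShape.up ℤ) p).map_isZero (isZero_zero _)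
  have hneg : ∀ (q : ℕ) (p : ℤ), p < 0 → IsZero (((Q q).extend ComplexShape.embeddingUpNat).X p) := fun q p hp =>
    (Q q).isZero_extend_X _ p (fun k hk => by simp at hk; omega)
  refine exists_of_rows (intRow Q) (fun n : ℤ => if 0 ≤ n then H' n.toNat else Z) (fun p q hp => ?_)
    (fun q => Nonempty.some ?_) (fun p q : ℤ => if 0 ≤ p ∧ 0 ≤ q then E₁ p.toNat q.toNat else Z)
    (fun p q => ?_) (fun p q h => ?_)
  · rcases q with q | q
    · by_cases h : 0 ≤ p
      · obtain ⟨m, rfl⟩ : ∃ m : ℕ, p = ((m + 1 : ℕ) : ℤ) := ⟨p.toNat - 1, by omega⟩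
        exact (h₁ m q).of_iso (HomologicalComplex.extendHomologyIso (Q q) ComplexShape.embeddingUpNat rfl)
      · exact (HomologicalComplex.exactAt_iff_isZero_homology _ _).1
          (ShortComplex.exact_of_isZero_X₂ _ (hneg q p (by omega)))
    · exact (HomologicalComplex.exactAt_iff_isZero_homology _ _).1
        (ShortComplex.exact_of_isZero_X₂ _ (hz0 p))
  · rcases q with q | q
    · exact ⟨HomologicalComplex.extendHomologyIso (Q q) ComplexShape.embeddingUpNat (j := 0) rfl ≪≫
        (h₀ q).some ≪≫ eqToIso (by simp)⟩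
    · rw [if_neg (by omega)]
      exact ⟨((HomologicalComplex.exactAt_iff_isZero_homology _ _).1
        (ShortComplex.exact_of_isZero_X₂ _ (hz0 0))).iso hZ⟩
  · rcases q with q | q
    · by_cases h : 0 ≤ p
      · obtain ⟨m, rfl⟩ : ∃ m : ℕ, p = (m : ℤ) := ⟨p.toNat, by omega⟩
        rw [if_pos ⟨h, Int.natCast_nonneg q⟩]
        exact ⟨(Q q).extendXIso ComplexShape.embeddingUpNat (i := m) rfl ≪≫ (hE m q).some⟩
      · rw [if_neg (by omega)]
        exact ⟨(hneg q p (by omega)).iso hZ⟩
    · rw [if_neg (by omega)]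
      exact ⟨(hz0 p).iso hZ⟩
  · rcases q with q | q
    · exact hneg q p (h.resolve_right (not_lt.2 (Int.natCast_nonneg q)))
    · exact hz0 p

end Nat

end GrothLib.GrothSS
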