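import Groth.Agent.Lib.GrothSS.Conv
import Groth.Agent.Lib.GrothSS.Abut
import Groth.Agent.Lib.GrothSS.Acyclic
import Groth.Agent.Lib.GrothSS.Tower
import Groth.Agent.Lib.DerCat.MapExtend
import Mathlib.Algebra.Homology.HomotopyCategory.SpectralObject
import Mathlib.Algebra.Homology.HomotopyCategory.HomologicalFunctor
import Mathlib.Algebra.Homology.DerivedCategory.TStructure
import Mathlib.Algebra.Homology.DerivedCategory.FullyFaithful
import Mathlib.Algebra.Homology.DerivedCategory.KInjective
import Mathlib.CategoryTheory.Abelian.Injective.Ext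

/-! # The hypercohomology spectral object -/

set_option autoImplicit false
universe v v' u u'

open CategoryTheory CategoryTheory.Limits ComposableArrows CochainComplex

namespace GrothLib.GrothSS

/-- Bounded below injective complexes concentrated in one degree with the same cohomology are
homotopy equivalent. -/
theorem nonempty_iso_of_concentrated {A : Type u} [Category.{v} A] [Abelian A]
    (L L' : CochainComplex A ℤ) [L.IsKInjective] [L'.IsKInjective] (m : ℤ)
    (hL : ∀ i, i ≠ m → L.ExactAt i) (hL' : ∀ i, i ≠ m → L'.ExactAt i)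
    (e : L.homology m ≅ L'.homology m) :
    Nonempty ((HomotopyCategory.quotient A (ComplexShape.up ℤ)).obj L ≅
      (HomotopyCategory.quotient A (ComplexShape.up ℤ)).obj L') := by
  let := HasDerivedCategory.standard A
  have key : ∀ (M : CochainComplex A ℤ), (∀ i, i ≠ m → M.ExactAt i) →
      Nonempty (DerivedCategory.Q.obj M ≅ (DerivedCategory.singleFunctor A m).obj (M.homology m)) := by
    intro M hM
    have : M.IsGE m := (M.isGE_iff m).2 fun i hi => hM i (by omega)
    have : M.IsLE m := (M.isLE_iff m).2 fun i hi => hM i (by omega)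
    have : (DerivedCategory.Q.obj M).IsGE m := (DerivedCategory.isGE_Q_obj_iff M m).2 inferInstance
    have : (DerivedCategory.Q.obj M).IsLE m := (DerivedCategory.isLE_Q_obj_iff M m).2 inferInstance
    obtain ⟨Y, ⟨α⟩⟩ :=
      DerivedCategory.exists_iso_singleFunctor_obj_of_isGE_of_isLE (DerivedCategory.Q.obj M) m
    exact ⟨α ≪≫ (DerivedCategory.singleFunctor A m).mapIso
      (((DerivedCategory.singleFunctorCompHomologyFunctorIso A m).app Y).symm ≪≫
        (DerivedCategory.homologyFunctor A m).mapIso α.symm ≪≫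
        (DerivedCategory.homologyFunctorFactors A m).app M)⟩
  obtain ⟨α⟩ := key L hL
  obtain ⟨α'⟩ := key L' hL'
  let β := α ≪≫ (DerivedCategory.singleFunctor A m).mapIso e ≪≫ α'.symm
  let γ : DerivedCategory.Qh.obj ((HomotopyCategory.quotient A (ComplexShape.up ℤ)).obj L) ≅
      DerivedCategory.Qh.obj ((HomotopyCategory.quotient A (ComplexShape.up ℤ)).obj L') :=
    (DerivedCategory.quotientCompQhIso A).app L ≪≫ β ≪≫ ((DerivedCategory.quotientCompQhIso A).app L').symm
  obtain ⟨f, hf⟩ := (IsKInjective.Qh_map_bijective _ L').surjective γ.hom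
  obtain ⟨g, hg⟩ := (IsKInjective.Qh_map_bijective _ L).surjective γ.inv
  exact ⟨⟨f, g, (IsKInjective.Qh_map_bijective _ L).injective (by simp [hf, hg]),
    (IsKInjective.Qh_map_bijective _ L').injective (by simp [hf, hg])⟩⟩

variable {A : Type u} [Category.{v} A] [Abelian A] [EnoughInjectives A]
  {B : Type u'} [Category.{v'} B] [Abelian B] (S : A ⥤ B) [S.Additive]

/-- The hypercohomology spectral object. -/
noncomputable def hyperObj (s : Stage A 0) : Abelian.SpectralObject B EInt :=
  mapHomological ((HomotopyCategory.spectralObjectMappingCone B).precomp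
      (einTower s ⋙ S.mapHomologicalComplex (ComplexShape.up ℤ)))
    (HomotopyCategory.homologyFunctor B (ComplexShape.up ℤ) 0) (-1)

/-- The spectral object is computed by cones. -/
noncomputable def hyperHIso (s : Stage A 0) (n : ℤ) {i j : EInt} (h : i ≤ j) :
    ((hyperObj S s).H n).obj (mk₁ (homOfLE h)) ≅
      (mappingCone ((S.mapHomologicalComplex (ComplexShape.up ℤ)).map
        ((einTower s).map (homOfLE h)))).homology (n + -1) :=
  (HomotopyCategory.homologyFunctorFactors B (ComplexShape.up ℤ) (n + -1)).app _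

lemma isZero_homology_cone_of_strictlyGE {K L : CochainComplex B ℤ} (f : K ⟶ L) (a i : ℤ)
    [K.IsStrictlyGE a] [L.IsStrictlyGE a] (hi : i < a - 1) : IsZero ((mappingCone f).homology i) := by
  have := isStrictlyGE_mappingCone f a a (a - 1)
  exact CochainComplex.isZero_of_isGE _ (a - 1) i hi

omit [EnoughInjectives A] in
lemma isStrictlyGE_map (L : CochainComplex A ℤ) (a : ℤ) [L.IsStrictlyGE a] :
    CochainComplex.IsStrictlyGE ((S.mapHomologicalComplex (ComplexShape.up ℤ)).obj L) a := by
  rw [isStrictlyGE_iff]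
  exact fun i hi => S.map_isZero (L.isZero_of_isStrictlyGE a i hi)

lemma isStrictlyGE_einTower (s : Stage A 0) (i : EInt) (n : ℤ) (h : n < i) :
    ((einTower s).obj i).IsStrictlyGE (n + 1) := by
  rw [isStrictlyGE_iff]
  intro k hk
  induction i using WithBotTop.rec with
  | bot => simp at h
  | coe a =>
    have hna : n < a := WithBotTop.coe_lt_coe.1 h
    have := (stage s a.toNat).strictlyGE
    change IsZero ((stage s a.toNat).cx.X k)
    exact (stage s a.toNat).cx.isZero_of_isStrictlyGE (a.toNat : ℤ) k (by omega)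
  | top =>
    exact (HomologicalComplex.eval A (ComplexShape.up ℤ) k).map_isZero (isZero_zero _)

lemma le_clamp_zero (i : EInt) (h : i ≤ ei 0) : clampIdx i = ((0 : ℕ) : WithTop ℕ) := by
  refine le_antisymm ((clampIdx_monotone h).trans (le_of_eq ?_)) ?_
  · rfl
  · exact le_trans (le_of_eq rfl) (clampIdx_monotone (bot_le : (⊥ : EInt) ≤ i))

instance hyperObj_isFirstQuadrant (s : Stage A 0) : (hyperObj S s).IsFirstQuadrant where
  isZero₁ i j hij hj n := by
    refine IsZero.of_iso ?_ (hyperHIso S s n hij)
    have : IsIso (clampIdx_monotone.functor.map (homOfLE hij)) :=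
      ⟨homOfLE (show clampIdx j ≤ clampIdx i by rw [le_clamp_zero i (hij.trans hj), le_clamp_zero j hj]), Subsingleton.elim _ _,
        Subsingleton.elim _ _⟩
    have : IsIso ((einTower s).map (homOfLE hij)) :=
      inferInstanceAs (IsIso ((extTop (tower s)).map (clampIdx_monotone.functor.map (homOfLE hij))))
    exact (DerCat.acyclic_iff _).1 ((DerCat.quasiIso_iff_acyclic_mappingCone _).1 inferInstance) _
  isZero₂ i j hij n hi := by
    refine IsZero.of_iso ?_ (hyperHIso S s n hij)
    have := isStrictlyGE_einTower s i n hi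
    have := isStrictlyGE_einTower s j n (hi.trans_le hij)
    have := isStrictlyGE_map S ((einTower s).obj i) (n + 1)
    have := isStrictlyGE_map S ((einTower s).obj j) (n + 1)
    exact isZero_homology_cone_of_strictlyGE _ (n + 1) _ (by omega)

omit [EnoughInjectives A] in
theorem nonempty_homology_cone_of_isZero {X Z : CochainComplex B ℤ} (f : X ⟶ Z) (hZ : IsZero Z)
    (n : ℤ) : Nonempty ((mappingCone f).homology (n + -1) ≅ X.homology n) := by
  have hT := HomotopyCategory.mappingCone_triangleh_distinguished f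
  have : IsIso (mappingCone.triangleh f).mor₃ :=
    (Pretriangulated.Triangle.isZero₂_iff_isIso₃ _ hT).1
      ((HomotopyCategory.quotient B _).map_isZero hZ)
  exact ⟨((HomotopyCategory.homologyFunctorFactors B (ComplexShape.up ℤ) (n + -1)).app _).symm ≪≫
    (HomotopyCategory.homologyFunctor B (ComplexShape.up ℤ) (n + -1)).mapIso
      (@asIso _ _ _ _ (mappingCone.triangleh f).mor₃ this) ≪≫
    ((HomotopyCategory.homologyFunctor B (ComplexShape.up ℤ) 0).shiftIso (1 : ℤ) (n + -1) n
      (by omega)).app _ ≪≫
    (HomotopyCategory.homologyFunctorFactors B (ComplexShape.up ℤ) n).app _⟩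

/-- The abutment. -/
theorem nonempty_total_iso (s : Stage A 0) (n : ℤ) :
    Nonempty (total (hyperObj S s) n ≅
      ((S.mapHomologicalComplex (ComplexShape.up ℤ)).obj s.cx).homology n) := by
  obtain ⟨e⟩ := nonempty_homology_cone_of_isZero
    ((S.mapHomologicalComplex (ComplexShape.up ℤ)).map
      ((einTower s).map (homOfLE (bot_le : (⊥ : EInt) ≤ ⊤))))
    ((S.mapHomologicalComplex (ComplexShape.up ℤ)).map_isZero (isZero_zero _)) n
  exact ⟨hyperHIso S s n bot_le ≪≫ e⟩

omit [EnoughInjectives A] in
lemma isIso_shift_map_quotient {K L : CochainComplex A ℤ} (f : K ⟶ L) (i : ℤ) [QuasiIsoAt f i] :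
    IsIso (((HomotopyCategory.homologyFunctor A (ComplexShape.up ℤ) 0).shift i).map
      ((HomotopyCategory.quotient A (ComplexShape.up ℤ)).map f)) :=
  (NatIso.isIso_map_iff (HomotopyCategory.homologyFunctorFactors A (ComplexShape.up ℤ) i) f).2
    ((quasiIsoAt_iff_isIso_homologyMap f i).1 inferInstance)

omit [EnoughInjectives A] in
/-- The cohomology of the cone of a map that kills the bottom degree. -/
theorem cone_concentrated {K L : CochainComplex A ℤ} (f : K ⟶ L) (q : ℤ) [K.IsStrictlyGE q]
    [L.IsStrictlyGE (q + 1)] (hf : ∀ i, q + 1 ≤ i → QuasiIsoAt f i) :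
    (∀ i, i ≠ q - 1 → (mappingCone f).ExactAt i) ∧
      Nonempty ((mappingCone f).homology (q - 1) ≅ K.homology q) := by
  set G := HomotopyCategory.homologyFunctor A (ComplexShape.up ℤ) 0
  have hT := HomotopyCategory.mappingCone_triangleh_distinguished f
  have hz : ∀ i, i ≤ q → IsZero ((G.shift i).obj (mappingCone.triangleh f).obj₂) := fun i hi =>
    IsZero.of_iso (L.isZero_of_isGE (q + 1) i (by omega))
      ((HomotopyCategory.homologyFunctorFactors A (ComplexShape.up ℤ) i).app L)
  refine ⟨fun i hi => ?_, ?_⟩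
  · rw [HomologicalComplex.exactAt_iff_isZero_homology]
    refine IsZero.of_iso ?_
      ((HomotopyCategory.homologyFunctorFactors A (ComplexShape.up ℤ) i).app (mappingCone f)).symm
    refine (G.homologySequence_exact₃ _ hT i (i + 1) rfl).isZero_of_both_zeros ?_ ?_
    · by_cases h : q ≤ i
      · by_cases h' : i = q
        · subst h'; exact (hz _ le_rfl).eq_of_src _ _
        · have := hf i (by omega)
          have : IsIso ((G.shift i).map (mappingCone.triangleh f).mor₁) :=
            isIso_shift_map_quotient f i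
          exact (G.homologySequence_epi_shift_map_mor₁_iff _ hT i).1 inferInstance
      · exact (hz i (by omega)).eq_of_src _ _
    · by_cases h : q ≤ i
      · have := hf (i + 1) (by omega)
        have : IsIso ((G.shift (i + 1)).map (mappingCone.triangleh f).mor₁) :=
          isIso_shift_map_quotient f (i + 1)
        exact (G.homologySequence_mono_shift_map_mor₁_iff _ hT i (i + 1) rfl).1 inferInstance
      · exact IsZero.eq_of_tgt (IsZero.of_iso (K.isZero_of_isGE q (i + 1) (by omega))
          ((HomotopyCategory.homologyFunctorFactors A (ComplexShape.up ℤ) (i + 1)).app K)) _ _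
  · have hq : q - 1 + 1 = q := by omega
    have : Mono (G.homologySequenceδ _ (q - 1) q hq) :=
      (G.homologySequence_exact₃ _ hT (q - 1) q hq).mono_g ((hz _ (by omega)).eq_of_src _ _)
    have : Epi (G.homologySequenceδ _ (q - 1) q hq) :=
      (G.homologySequence_exact₁ _ hT (q - 1) q hq).epi_f ((hz _ le_rfl).eq_of_tgt _ _)
    have hδ := isIso_of_mono_of_epi (G.homologySequenceδ (mappingCone.triangleh f) (q - 1) q hq)
    exact ⟨((HomotopyCategory.homologyFunctorFactors A (ComplexShape.up ℤ) (q - 1)).app _).symm ≪≫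
      @asIso _ _ _ _ (G.homologySequenceδ (mappingCone.triangleh f) (q - 1) q hq) hδ ≪≫
      (HomotopyCategory.homologyFunctorFactors A (ComplexShape.up ℤ) q).app _⟩

/-- The cohomology of `S` of a concentrated bounded below injective complex. -/
theorem nonempty_homology_map_iso_rightDerived [HasInjectiveResolutions A]
    (L : CochainComplex A ℤ) [L.IsKInjective] (m : ℤ) (hL : ∀ i, i ≠ m → L.ExactAt i) (p : ℕ)
    (k : ℤ) (hk : k = m + p) :
    Nonempty (((S.mapHomologicalComplex (ComplexShape.up ℤ)).obj L).homology k ≅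
      (S.rightDerived p).obj (L.homology m)) := by
  let R := injectiveResolution (L.homology m)
  let L' := R.cochainComplex⟦-m⟧
  have hR : ∀ i : ℤ, i ≠ 0 → IsZero (R.cochainComplex.homology i) := fun i hi => by
    rcases lt_or_gt_of_ne hi with h | h
    · exact R.cochainComplex.isZero_of_isGE 0 i h
    · exact R.cochainComplex.isZero_of_isLE 0 i h
  have hL' : ∀ i, i ≠ m → L'.ExactAt i := fun i hi => by
    rw [HomologicalComplex.exactAt_iff_isZero_homology]
    exact (hR (-m + i) (by omega)).of_iso
      (((HomologicalComplex.homologyFunctor A (ComplexShape.up ℤ) 0).shiftIso (-m) i (-m + i)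
        rfl).app R.cochainComplex)
  obtain ⟨e⟩ := nonempty_iso_of_concentrated L L' m hL hL'
    (((HomologicalComplex.homologyFunctor A (ComplexShape.up ℤ) 0).shiftIso (-m) m 0
        (by omega)).app R.cochainComplex ≪≫ (isoOfQuasiIsoAt R.ι' 0).symm ≪≫
      HomologicalComplex.singleObjHomologySelfIso _ _ _).symm
  exact ⟨((HomotopyCategory.homologyFunctorFactors B (ComplexShape.up ℤ) k).app _).symm ≪≫
    (HomotopyCategory.homologyFunctor B (ComplexShape.up ℤ) k).mapIso
      (((S.mapHomotopyCategoryFactors (ComplexShape.up ℤ)).app L).symm ≪≫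
        (S.mapHomotopyCategory (ComplexShape.up ℤ)).mapIso e ≪≫
        (S.mapHomotopyCategoryFactors (ComplexShape.up ℤ)).app L') ≪≫
    (HomotopyCategory.homologyFunctorFactors B (ComplexShape.up ℤ) k).app _ ≪≫
    (HomologicalComplex.homologyFunctor B (ComplexShape.up ℤ) k).mapIso
      (((S.mapHomologicalComplex (ComplexShape.up ℤ)).commShiftIso (-m)).app R.cochainComplex) ≪≫
    ((HomologicalComplex.homologyFunctor B (ComplexShape.up ℤ) 0).shiftIso (-m) k (p : ℤ)
      (by omega)).app _ ≪≫
    DerTrunc.rightDerivedExtendIso S R p⟩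

/-- The terms of the second page. -/
theorem nonempty_H_step_iso [HasInjectiveResolutions A] (s : Stage A 0) (p q : ℕ)
    (hle : ei (q : ℤ) ≤ ei ((q : ℤ) + 1)) :
    Nonempty (((hyperObj S s).H ((p : ℤ) + q)).obj (mk₁ (homOfLE hle)) ≅
      (S.rightDerived p).obj (s.cx.homology q)) := by
  let f := stageMap s q
  have := (stage s q).strictlyGE
  have h1 : (stage s (q + 1)).cx.IsStrictlyGE ((q : ℤ) + 1) := (stage s (q + 1)).strictlyGE
  have hinj : ∀ i, Injective ((mappingCone f).X i) := fun i => by
    have := (stage s q).injective (i + 1)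
    have := (stage s (q + 1)).injective i
    exact Injective.of_iso (HomologicalComplex.homotopyCofiber.XIsoBiprod f i (i + 1) (by simp)).symm
      inferInstance
  have := isStrictlyGE_mappingCone f (q : ℤ) ((q : ℤ) + 1) ((q : ℤ) - 1)
  have : (mappingCone f).IsKInjective := isKInjective_of_injective _ ((q : ℤ) - 1)
  obtain ⟨hc, ⟨e⟩⟩ := cone_concentrated f (q : ℤ) (quasiIsoAt_stageMap s q)
  obtain ⟨e'⟩ := nonempty_homology_map_iso_rightDerived S (mappingCone f) ((q : ℤ) - 1) hc p
    ((p : ℤ) + q + -1) (by omega)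
  obtain ⟨e''⟩ := nonempty_homology_tower_iso s (q : ℤ) q le_rfl
  have hmap : (einTower s).map (homOfLE hle) = f := tower_map_succ s q
  refine ⟨hyperHIso S s _ hle ≪≫
    (HomologicalComplex.homologyFunctor B (ComplexShape.up ℤ) _).mapIso (?_) ≪≫ e' ≪≫
    (S.rightDerived p).mapIso (e ≪≫ e'')⟩
  exact eqToIso (congrArg (fun g => mappingCone ((S.mapHomologicalComplex (ComplexShape.up ℤ)).map g)) hmap) ≪≫
    (mappingCone.mapHomologicalComplexIso f S).symm

/-- The hypercohomology spectral sequence of a bounded below complex. -/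
theorem exists_hyper [HasInjectiveResolutions A] (s : Stage A 0) (E₂ : ℤ × ℤ → B) (H : ℤ → B)
    (hH : ∀ n, Nonempty (H n ≅ ((S.mapHomologicalComplex (ComplexShape.up ℤ)).obj s.cx).homology n))
    (hE0 : ∀ pq : ℤ × ℤ, pq.1 < 0 ∨ pq.2 < 0 → IsZero (E₂ pq))
    (hE : ∀ p q : ℕ, Nonempty (E₂ ((p : ℤ), (q : ℤ)) ≅ (S.rightDerived p).obj (s.cx.homology q))) :
    ∃ (E : E₂CohomologicalSpectralSequence B) (a : SpSeq.Abutment E H),
      (∀ n, a.IsFinite n) ∧ SpSeq.IsBounded E ∧
      ∀ pq : ℤ × ℤ, Nonempty ((E.page 2 le_rfl).X pq ≅ E₂ pq) := by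
  let e : ∀ n, total (hyperObj S s) n ≅ H n := fun n =>
    (nonempty_total_iso S s n).some ≪≫ (hH n).some.symm
  refine ⟨(hyperObj S s).E₂SpectralSequence, abutment (hyperObj S s) e,
    abutment_isFinite (hyperObj S s) e, isBounded (hyperObj S s),
    nonempty_page_two_iso (hyperObj S s) E₂ hE0 fun p q hle => ?_⟩
  obtain ⟨g⟩ := nonempty_H_step_iso S s p q hle
  exact ⟨g ≪≫ (hE p q).some.symm⟩

end GrothLib.GrothSS
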